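import Mathlib
import Cfsg.Agent.OddCyclic.FFRed

/-!
# CLAIM C (3.3) of blueprints/S0342-Empty-NS-helper347.md: the configuration

`H` acts on the elementary abelian 2-group `V`; `Cfg ρ E R D c d`: `E ≤ H` elementary abelian of order `2^c`, `c ≥ 2`,
`R ≤ D < V`, `|V : D| = 2^d`, and for `v ∉ D` the map `a ↦ [v,a]R` is an isomorphism of `E` onto `D/R`.

* `width` : `|V : C_V(a)| ≤ |E|` for `a ∈ E`, `a ≠ 1`;
* `nonquad` : `[D, E] ≠ 1`;
* `comm_le` (G1): an `E`-invariant subgroup not contained in `D` contains `[D, E]`;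
* `trivial_or` (G): `V = V' × V''` with `V', V''` invariant under `E`: `E` is trivial on `V'` or on `V''`.
-/

set_option autoImplicit false
set_option linter.unusedSectionVars false

namespace Cfsg.Agent.OddCyclic.EmpC

open Subgroup Cfsg.Agent.OddCyclic.T1Module Cfsg.Agent.OddCyclic.FFBasic Cfsg.Agent.OddCyclic.FFRed

variable {H : Type*} [Group H] {V : Type*} [CommGroup V]

/-- there is no FF-offender -/
def NFF (ρ : H →* MulAut V) : Prop :=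
  ∀ A : Subgroup H, (∀ a ∈ A, a * a = 1) → A ≠ ⊥ → Nat.card A < (CS ρ A).index

/-- the configuration (3.2) -/
structure Cfg (ρ : H →* MulAut V) (E : Subgroup H) (R D : Subgroup V) (c d : ℕ) : Prop where
  sq : ∀ a ∈ E, a * a = 1
  card : Nat.card E = 2 ^ c
  two : 2 ≤ c
  le : R ≤ D
  index : D.index = 2 ^ d
  pos : 1 ≤ d
  fix : R ≤ CS ρ E
  bad : ∀ N ≤ R, (∀ h, ∀ v ∈ N, ρ h v ∈ N) → N = ⊥
  comm : ∀ v, v ∉ D → ∀ a ∈ E, ρ a v * v⁻¹ ∈ D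
  inj : ∀ v, v ∉ D → ∀ a ∈ E, ρ a v * v⁻¹ ∈ R → a = 1
  surj : ∀ v, v ∉ D → ∀ w ∈ D, ∃ a ∈ E, ∃ r ∈ R, w = ρ a v * v⁻¹ * r
  dcomm : ∀ v ∈ D, ∀ a ∈ E, ρ a v * v⁻¹ ∈ R

theorem inv_eq (hV : ∀ v : V, v * v = 1) (v : V) : v⁻¹ = v := inv_eq_of_mul_eq_one_left (hV v)

theorem mul_cancel (hV : ∀ v : V, v * v = 1) (v w : V) : v * (v * w) = w := by rw [← mul_assoc, hV, one_mul]

/-- an involution maps `V` into its fixed points by `v ↦ [v,a]` -/
theorem range_le_fx {ρ : H →* MulAut V} (hV : ∀ v : V, v * v = 1) {a : H} (ha : a * a = 1) :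
    (cm ρ a).range ≤ fx ρ a := by
  rintro _ ⟨v, rfl⟩
  rw [mem_fx, cm_apply, map_mul, map_inv]
  have h1 : ρ a (ρ a v) = v := by rw [← MulAut.mul_apply, ← map_mul, ha, map_one]; rfl
  rw [h1, inv_eq hV, inv_eq hV, mul_comm]

variable {ρ : H →* MulAut V} {E : Subgroup H} {R D : Subgroup V} {c d : ℕ}

namespace Cfg

theorem ne_top (h : Cfg ρ E R D c d) : D ≠ ⊤ := by
  intro h1
  have h2 := h.index
  rw [h1, Subgroup.index_top] at h2
  have h3 := h.pos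
  have h4 : 2 ^ 1 ≤ 2 ^ d := Nat.pow_le_pow_right (by norm_num) h3
  omega

theorem exists_notMem (h : Cfg ρ E R D c d) : ∃ v, v ∉ D := by
  by_contra hcon
  push Not at hcon
  exact h.ne_top (eq_top_iff.2 fun v _ => hcon v)

theorem fix_apply (h : Cfg ρ E R D c d) {r : V} (hr : r ∈ R) {a : H} (ha : a ∈ E) : ρ a r = r := h.fix hr a ha

/-- `C_V(a) ≤ D` -/
theorem fx_le (h : Cfg ρ E R D c d) {a : H} (ha : a ∈ E) (ha1 : a ≠ 1) : fx ρ a ≤ D := by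
  intro v hv
  by_contra hvD
  apply ha1
  apply h.inj v hvD a ha
  rw [mem_fx] at hv
  rw [hv, mul_inv_cancel]
  exact one_mem R

theorem CS_le (h : Cfg ρ E R D c d) {A : Subgroup H} (hA : A ≤ E) (hA1 : A ≠ ⊥) : CS ρ A ≤ D := by
  obtain ⟨⟨a, ha⟩, ha1⟩ := Subgroup.ne_bot_iff_exists_ne_one.1 hA1
  have ha1' : a ≠ 1 := fun h => ha1 (Subtype.ext h)
  exact le_trans (fun v hv => hv a ha) (h.fx_le (hA ha) ha1')

theorem ne_bot (h : Cfg ρ E R D c d) : E ≠ ⊥ := by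
  intro h1
  have h2 := h.card
  rw [h1, Subgroup.card_bot] at h2
  have h4 : 2 ^ 1 ≤ 2 ^ c := Nat.pow_le_pow_right (by norm_num) (by have := h.two; omega)
  omega

theorem CSE_le (h : Cfg ρ E R D c d) : CS ρ E ≤ D := h.CS_le le_rfl h.ne_bot

theorem eq_comm (h : Cfg ρ E R D c d) {a b : H} (ha : a ∈ E) (hb : b ∈ E) : a * b = b * a :=
  comm_of_sq h.sq ha hb

/-- `[V, E] ≤ D` -/
theorem comm_mem (h : Cfg ρ E R D c d) (v : V) {a : H} (ha : a ∈ E) : ρ a v * v⁻¹ ∈ D := by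
  by_cases hv : v ∈ D
  · exact h.le (h.dcomm v hv a ha)
  · exact h.comm v hv a ha

/-- `[v, ab] = [v,a][v,b]` modulo `R` -/
theorem comm_mul (h : Cfg ρ E R D c d) (v : V) {a b : H} (ha : a ∈ E) (hb : b ∈ E) :
    ρ (a * b) v * v⁻¹ * ((ρ a v * v⁻¹) * (ρ b v * v⁻¹))⁻¹ ∈ R := by
  have h1 := h.dcomm _ (h.comm_mem v hb) a ha
  have h2 : ρ (a * b) v * v⁻¹ * ((ρ a v * v⁻¹) * (ρ b v * v⁻¹))⁻¹ =
      ρ a (ρ b v * v⁻¹) * (ρ b v * v⁻¹)⁻¹ := by
    rw [map_mul ρ, MulAut.mul_apply, map_mul, map_inv]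
    set x := ρ a (ρ b v)
    set y := ρ a v
    set z := ρ b v
    simp only [mul_inv, inv_inv]
    have : x * v⁻¹ * (y⁻¹ * v * (z⁻¹ * v)) = x * y⁻¹ * (z⁻¹ * v) * (v⁻¹ * v) := by
      simp only [mul_assoc, mul_comm, mul_left_comm]
    rw [this, inv_mul_cancel, mul_one]
  rw [h2]
  exact h1

/-- `|D| = |E||R|` -/
theorem card_D [Finite V] (h : Cfg ρ E R D c d) (hV : ∀ v : V, v * v = 1) :
    Nat.card D = Nat.card E * Nat.card R := by
  obtain ⟨v, hv⟩ := h.exists_notMem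
  rw [← Nat.card_prod]
  symm
  apply Nat.card_congr
  refine Equiv.ofBijective (fun p : E × R => (⟨ρ p.1 v * v⁻¹ * p.2, mul_mem (h.comm v hv _ p.1.2) (h.le p.2.2)⟩ : D))
    ⟨?_, ?_⟩
  · rintro ⟨a, r⟩ ⟨b, s⟩ hab
    have h1 : ρ (a : H) v * v⁻¹ * r = ρ (b : H) v * v⁻¹ * s := congrArg Subtype.val hab
    have hb1 : (b : H)⁻¹ = b := inv_eq_of_mul_eq_one_left (h.sq b b.2)
    have h2 : (ρ (a : H) v * v⁻¹) * (ρ (b : H) v * v⁻¹) = r * s := by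
      have h3 : (ρ (a : H) v * v⁻¹) = (ρ (b : H) v * v⁻¹) * (s * r) := by
        have : (ρ (a : H) v * v⁻¹ * r) * r = (ρ (b : H) v * v⁻¹ * s) * r := by rw [h1]
        rwa [mul_assoc, hV, mul_one, mul_assoc] at this
      rw [h3, mul_comm (ρ (b : H) v * v⁻¹) (s * r), mul_assoc, hV, mul_one, mul_comm]
    have h4 := h.comm_mul v a.2 b.2
    rw [h2] at h4
    have h5 : ρ ((a : H) * b) v * v⁻¹ ∈ R := by
      have := mul_mem h4 (mul_mem r.2 s.2)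
      rwa [inv_mul_cancel_right] at this
    have h6 := h.inj v hv _ (mul_mem a.2 b.2) h5
    have h7 : (a : H) = b := by rw [mul_eq_one_iff_eq_inv.1 h6, hb1]
    have h8 : a = b := Subtype.ext h7
    subst h8
    have h9 : (r : V) = s := mul_left_cancel h1
    rw [Subtype.ext h9]
  · rintro ⟨w, hw⟩
    obtain ⟨a, ha, r, hr, rfl⟩ := h.surj v hv w hw
    exact ⟨(⟨a, ha⟩, ⟨r, hr⟩), rfl⟩

/-- `|R| |V : D| ≤ |C_V(a)|` -/
theorem card_fx_ge [Finite V] (h : Cfg ρ E R D c d) (hV : ∀ v : V, v * v = 1) {a : H} (ha : a ∈ E) (ha1 : a ≠ 1) :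
    Nat.card R * D.index ≤ Nat.card (fx ρ a) := by
  have hRf : R ≤ fx ρ a := fun r hr => h.fix_apply hr ha
  have h1 : Nat.card R * R.relIndex (fx ρ a) = Nat.card (fx ρ a) := card_mul_relIndex hRf
  rw [← h1]
  refine Nat.mul_le_mul_left _ ?_
  -- `V/D` embeds in `C_V(a)/R`
  let f : V →* fx ρ a := (cm ρ a).codRestrict (fx ρ a) fun v => range_le_fx hV (h.sq a ha) ⟨v, rfl⟩
  let g : V →* (fx ρ a) ⧸ R.subgroupOf (fx ρ a) := (QuotientGroup.mk' _).comp f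
  have hk : g.ker = D := by
    ext v
    rw [MonoidHom.mem_ker]
    show (QuotientGroup.mk' (R.subgroupOf (fx ρ a))) (f v) = 1 ↔ _
    rw [QuotientGroup.mk'_apply, QuotientGroup.eq_one_iff, Subgroup.mem_subgroupOf]
    show ρ a v * v⁻¹ ∈ R ↔ v ∈ D
    constructor
    · intro h2
      by_contra hv
      exact ha1 (h.inj v hv a ha h2)
    · intro hv
      exact h.dcomm v hv a ha
  rw [← hk, Subgroup.index_ker]
  have h2 : Nat.card g.range ≤ Nat.card ((fx ρ a) ⧸ R.subgroupOf (fx ρ a)) :=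
    Nat.card_le_card_of_injective _ g.range.subtype_injective
  exact h2

/-- `|V| = |V : D| |E| |R|` -/
theorem card_V [Finite V] (h : Cfg ρ E R D c d) (hV : ∀ v : V, v * v = 1) :
    Nat.card V = D.index * Nat.card E * Nat.card R := by
  rw [← D.card_mul_index, h.card_D hV]
  ring

/-- **(iii)** `|V : C_V(a)| ≤ |E|` -/
theorem width [Finite V] (h : Cfg ρ E R D c d) (hV : ∀ v : V, v * v = 1) {a : H} (ha : a ∈ E) (ha1 : a ≠ 1) :
    (fx ρ a).index ≤ Nat.card E := by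
  have h1 := h.card_fx_ge hV ha ha1
  have h2 := h.card_V hV
  have h3 := (fx ρ a).card_mul_index
  have h4 : 0 < Nat.card R * D.index := Nat.mul_pos Nat.card_pos (Nat.pos_of_ne_zero Subgroup.index_ne_zero_of_finite)
  refine Nat.le_of_mul_le_mul_left ?_ h4
  calc Nat.card R * D.index * (fx ρ a).index ≤ Nat.card (fx ρ a) * (fx ρ a).index := Nat.mul_le_mul_right _ h1
    _ = Nat.card R * D.index * Nat.card E := by rw [h3, h2]; ring

/-- `|V : D| ≤ |E|` -/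
theorem index_le_card [Finite V] (h : Cfg ρ E R D c d) (hV : ∀ v : V, v * v = 1) : D.index ≤ Nat.card E := by
  obtain ⟨⟨a, ha⟩, ha1⟩ := Subgroup.ne_bot_iff_exists_ne_one.1 h.ne_bot
  have ha1' : a ≠ 1 := fun h => ha1 (Subtype.ext h)
  have h1 := h.width hV ha ha1'
  refine le_trans ?_ h1
  exact Nat.le_of_dvd (Nat.pos_of_ne_zero Subgroup.index_ne_zero_of_finite) (Subgroup.index_dvd_of_le (h.fx_le ha ha1'))

/-- **(iv)** `E` is not trivial on `D` -/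
theorem nonquad [Finite V] (h : Cfg ρ E R D c d) (hV : ∀ v : V, v * v = 1) (hN : NFF ρ) :
    ∃ w ∈ D, ∃ a ∈ E, ρ a w ≠ w := by
  by_contra hcon
  push Not at hcon
  have h1 : CS ρ E = D := le_antisymm h.CSE_le fun w hw a ha => hcon w hw a ha
  have h2 := hN E h.sq h.ne_bot
  rw [h1] at h2
  exact absurd (h.index_le_card hV) (not_le.2 h2)

/-- **(G1)** `E`-invariant subgroups not contained in `D` contain `[D, E]` -/
theorem comm_le (h : Cfg ρ E R D c d) {W : Subgroup V}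
    (hW : ∀ a ∈ E, ∀ w ∈ W, ρ a w ∈ W) (hWD : ¬ W ≤ D) {w : V} (hw : w ∈ D) {b : H} (hb : b ∈ E) :
    ρ b w * w⁻¹ ∈ W := by
  obtain ⟨v, hvW, hvD⟩ := Set.not_subset.1 hWD
  obtain ⟨a, ha, r, hr, rfl⟩ := h.surj v hvD w hw
  have hr' := h.fix_apply hr hb
  have h1 : ρ a v * v⁻¹ ∈ W := mul_mem (hW a ha v hvW) (inv_mem hvW)
  have h2 : ρ b (ρ a v * v⁻¹ * r) * (ρ a v * v⁻¹ * r)⁻¹ = ρ b (ρ a v * v⁻¹) * (ρ a v * v⁻¹)⁻¹ := by
    rw [map_mul (ρ b), hr']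
    set x := ρ a v * v⁻¹
    rw [mul_inv, mul_mul_mul_comm, mul_inv_cancel, mul_one]
  rw [h2]
  exact mul_mem (hW b hb _ h1) (inv_mem h1)

/-- **(G)** -/
theorem trivial_or [Finite V] (h : Cfg ρ E R D c d) (hV : ∀ v : V, v * v = 1) (hN : NFF ρ) {V' V'' : Subgroup V}
    (h1 : ∀ a ∈ E, ∀ w ∈ V', ρ a w ∈ V') (h2 : ∀ a ∈ E, ∀ w ∈ V'', ρ a w ∈ V'') (hbot : V' ⊓ V'' = ⊥)
    (htop : V' ⊔ V'' = ⊤) : V' ≤ CS ρ E ∨ V'' ≤ CS ρ E := by
  have key : ∀ A B : Subgroup V, (∀ a ∈ E, ∀ w ∈ A, ρ a w ∈ A) → (∀ a ∈ E, ∀ w ∈ B, ρ a w ∈ B) → A ⊓ B = ⊥ →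
      A ⊔ B = ⊤ → A ≤ D → A ≤ CS ρ E := by
    intro A B hA hB hAB hAB' hAD
    have hBD : ¬ B ≤ D := by
      intro hB'
      apply h.ne_top
      rw [eq_top_iff, ← hAB']
      exact sup_le hAD hB'
    intro w hw a ha
    have h3 : ρ a w * w⁻¹ ∈ A ⊓ B :=
      Subgroup.mem_inf.2 ⟨mul_mem (hA a ha w hw) (inv_mem hw), h.comm_le hB hBD (hAD hw) ha⟩
    rw [hAB, Subgroup.mem_bot, mul_inv_eq_one] at h3
    exact h3
  by_cases hD1 : V' ≤ D
  · exact Or.inl (key V' V'' h1 h2 hbot htop hD1)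
  by_cases hD2 : V'' ≤ D
  · exact Or.inr (key V'' V' h2 h1 (by rw [inf_comm]; exact hbot) (by rw [sup_comm]; exact htop) hD2)
  exfalso
  obtain ⟨w, hw, a, ha, hne⟩ := h.nonquad hV hN
  apply hne
  have h3 : ρ a w * w⁻¹ ∈ V' ⊓ V'' := ⟨h.comm_le h1 hD1 hw ha, h.comm_le h2 hD2 hw ha⟩
  rw [hbot, Subgroup.mem_bot, mul_inv_eq_one] at h3
  exact h3

end Cfg

end Cfsg.Agent.OddCyclic.EmpC
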