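import Mathlib
import Cfsg.Agent.OddCyclic.EmpC.Basic
import Cfsg.Agent.OddCyclic.FFSl2

/-!
# CLAIM C: (R5) and (IRR) of blueprints/S0342-Empty-NS-helper347.md

* `sub`, `quo` : the action on an invariant subgroup and on the quotient; `index_mul_le`;
* `CM ρ K = [V, K]`;
* `fixed_le` (R5): `C_V(P) ≤ [V,K] C_V(K)` for `P ≤ K` of odd index;
* `Bad ρ T` : `V = ⟨Z^H⟩`, `Z = C_V(T)`, and every `z ∈ Z`, `z ≠ 1`, is bad;
* `Bad.irr` (IRR).
-/

set_option autoImplicit false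
set_option linter.unusedSectionVars false

namespace Cfsg.Agent.OddCyclic.EmpC

open Subgroup Cfsg.Agent.OddCyclic.T1Module Cfsg.Agent.OddCyclic.FFBasic Cfsg.Agent.OddCyclic.FFRed

variable {H : Type*} [Group H] {V : Type*} [CommGroup V]

/-! ### invariant subgroups and quotients -/

/-- `W` is invariant under `H` -/
def Inv (ρ : H →* MulAut V) (W : Subgroup V) : Prop := ∀ h : H, ∀ w ∈ W, ρ h w ∈ W

/-- the action on an invariant subgroup -/
def sub (ρ : H →* MulAut V) (W : Subgroup V) (hW : Inv ρ W) : H →* MulAut W where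
  toFun n :=
    { toFun := fun w => ⟨ρ n (w : V), hW n w w.2⟩
      invFun := fun w => ⟨ρ n⁻¹ (w : V), hW _ w w.2⟩
      left_inv := fun w => by
        apply Subtype.ext
        show ρ n⁻¹ (ρ n (w : V)) = w
        rw [← MulAut.mul_apply, ← map_mul, inv_mul_cancel, map_one]; rfl
      right_inv := fun w => by
        apply Subtype.ext
        show ρ n (ρ n⁻¹ (w : V)) = w
        rw [← MulAut.mul_apply, ← map_mul, mul_inv_cancel, map_one]; rfl
      map_mul' := fun v w => Subtype.ext (map_mul (ρ n) (v : V) (w : V)) }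
  map_one' := by
    ext w
    show ρ 1 (w : V) = w
    rw [map_one]; rfl
  map_mul' m n := by
    ext w
    show ρ (m * n) (w : V) = ρ m (ρ n (w : V))
    rw [map_mul]; rfl

theorem sub_apply {ρ : H →* MulAut V} {W : Subgroup V} (hW : Inv ρ W) (h : H) (w : W) :
    ((sub ρ W hW h w : W) : V) = ρ h (w : V) := rfl

theorem fx_sub {ρ : H →* MulAut V} {W : Subgroup V} (hW : Inv ρ W) (h : H) :
    fx (sub ρ W hW) h = (fx ρ h).subgroupOf W := by
  ext w
  rw [mem_fx, Subgroup.mem_subgroupOf, mem_fx, Subtype.ext_iff, sub_apply]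

theorem Inv.map_eq {ρ : H →* MulAut V} {W : Subgroup V} (hW : Inv ρ W) (h : H) :
    W.map (ρ h : V →* V) = W := by
  apply le_antisymm
  · rintro _ ⟨w, hw, rfl⟩
    exact hW h w hw
  · intro w hw
    refine ⟨ρ h⁻¹ w, hW _ w hw, ?_⟩
    show ρ h (ρ h⁻¹ w) = w
    rw [← MulAut.mul_apply, ← map_mul, mul_inv_cancel, map_one]; rfl

/-- the action on the quotient by an invariant subgroup -/
def quo (ρ : H →* MulAut V) (W : Subgroup V) (hW : Inv ρ W) : H →* MulAut (V ⧸ W) where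
  toFun h := QuotientGroup.congr W W (ρ h) (hW.map_eq h)
  map_one' := by
    ext v
    obtain ⟨v, rfl⟩ := QuotientGroup.mk_surjective v
    show ((ρ 1 v : V) : V ⧸ W) = v
    rw [map_one]; rfl
  map_mul' m n := by
    ext v
    obtain ⟨v, rfl⟩ := QuotientGroup.mk_surjective v
    show ((ρ (m * n) v : V) : V ⧸ W) = (ρ m (ρ n v) : V)
    rw [map_mul]; rfl

theorem quo_apply {ρ : H →* MulAut V} {W : Subgroup V} (hW : Inv ρ W) (h : H) (v : V) :
    quo ρ W hW h (v : V ⧸ W) = ((ρ h v : V) : V ⧸ W) := rfl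

theorem quo_sq {W : Subgroup V} (hV : ∀ v : V, v * v = 1) (v : V ⧸ W) : v * v = 1 := by
  obtain ⟨v, rfl⟩ := QuotientGroup.mk_surjective v
  rw [← QuotientGroup.mk_mul, hV, QuotientGroup.mk_one]

theorem index_mul_le [Finite V] {ρ : H →* MulAut V} {W : Subgroup V} (hW : Inv ρ W) (a : H) :
    (fx (sub ρ W hW) a).index * (fx (quo ρ W hW) a).index ≤ (fx ρ a).index := by
  have h1 : (fx (sub ρ W hW) a).index = (fx ρ a).relIndex W := by rw [fx_sub]; rfl
  have h2 : fx ρ a ⊔ W ≤ (fx (quo ρ W hW) a).comap (QuotientGroup.mk' W) := by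
    apply sup_le
    · intro v hv
      rw [Subgroup.mem_comap, mem_fx]
      show quo ρ W hW a (v : V ⧸ W) = v
      rw [quo_apply, show ρ a v = v from hv]
    · intro v hv
      rw [Subgroup.mem_comap]
      have : QuotientGroup.mk' W v = 1 := (QuotientGroup.eq_one_iff v).2 hv
      rw [this]
      exact one_mem _
  have h3 : (fx (quo ρ W hW) a).index ≤ (fx ρ a ⊔ W).index := by
    rw [← Subgroup.index_comap_of_surjective _ (QuotientGroup.mk'_surjective W)]
    exact Nat.le_of_dvd (Nat.pos_of_ne_zero Subgroup.index_ne_zero_of_finite) (Subgroup.index_dvd_of_le h2)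
  have h4 : (fx ρ a).relIndex (fx ρ a ⊔ W) * (fx ρ a ⊔ W).index = (fx ρ a).index :=
    Subgroup.relIndex_mul_index le_sup_left
  have h5 : (fx ρ a).relIndex (fx ρ a ⊔ W) = (fx ρ a).relIndex W := by
    rw [sup_comm, Subgroup.relIndex_sup_right]
  rw [h1, ← h4, h5]
  exact Nat.mul_le_mul_left _ h3

/-! ### `[V, K]` -/

/-- `[V, K]` -/
def CM (ρ : H →* MulAut V) (K : Subgroup H) : Subgroup V :=
  Subgroup.closure {x | ∃ k ∈ K, ∃ v : V, x = ρ k v * v⁻¹}

theorem mem_CM {ρ : H →* MulAut V} {K : Subgroup H} {k : H} (hk : k ∈ K) (v : V) : ρ k v * v⁻¹ ∈ CM ρ K :=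
  Subgroup.subset_closure ⟨k, hk, v, rfl⟩

theorem CM_le {ρ : H →* MulAut V} {K : Subgroup H} {W : Subgroup V} (h : ∀ k ∈ K, ∀ v : V, ρ k v * v⁻¹ ∈ W) :
    CM ρ K ≤ W := by
  rw [CM, Subgroup.closure_le]
  rintro _ ⟨k, hk, v, rfl⟩
  exact h k hk v

theorem apply_eq (ρ : H →* MulAut V) (h k : H) (v : V) : ρ h (ρ k v) = ρ (h * k * h⁻¹) (ρ h v) := by
  rw [← MulAut.mul_apply, ← MulAut.mul_apply, ← map_mul, ← map_mul]
  congr 2
  group

theorem CM_inv (ρ : H →* MulAut V) (K : Subgroup H) [K.Normal] : Inv ρ (CM ρ K) := by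
  intro h w hw
  have h1 : CM ρ K ≤ (CM ρ K).comap (ρ h : V →* V) := by
    apply CM_le
    intro k hk v
    rw [Subgroup.mem_comap]
    show ρ h (ρ k v * v⁻¹) ∈ CM ρ K
    rw [map_mul, map_inv, apply_eq]
    exact mem_CM (Subgroup.Normal.conj_mem inferInstance k hk h) _
  exact h1 hw

theorem CS_inv (ρ : H →* MulAut V) (K : Subgroup H) [hK : K.Normal] : Inv ρ (CS ρ K) := by
  intro h w hw k hk
  have h1 := hw _ (hK.conj_mem k hk h⁻¹)
  rw [inv_inv] at h1
  have h2 : ρ k (ρ h w) = ρ h (ρ (h⁻¹ * k * h) w) := by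
    rw [← MulAut.mul_apply, ← MulAut.mul_apply, ← map_mul, ← map_mul]
    congr 2
    group
  rw [h2, h1]

theorem CS_eq_top {ρ : H →* MulAut V} {K : Subgroup H} : CS ρ K = ⊤ ↔ ∀ k ∈ K, ∀ v, ρ k v = v := by
  constructor
  · intro h k hk v
    have : v ∈ CS ρ K := by rw [h]; trivial
    exact this k hk
  · intro h
    rw [eq_top_iff]
    exact fun v _ k hk => h k hk v

theorem CM_eq_bot {ρ : H →* MulAut V} {K : Subgroup H} : CM ρ K = ⊥ ↔ ∀ k ∈ K, ∀ v, ρ k v = v := by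
  constructor
  · intro h k hk v
    have := mem_CM (ρ := ρ) hk v
    rwa [h, Subgroup.mem_bot, mul_inv_eq_one] at this
  · intro h
    rw [eq_bot_iff]
    apply CM_le
    intro k hk v
    rw [h k hk v, mul_inv_cancel]
    exact one_mem _

/-! ### (R5) -/

theorem pow_eq_of_odd (hV : ∀ v : V, v * v = 1) {n : ℕ} (hn : Odd n) (v : V) : v ^ n = v := by
  obtain ⟨k, rfl⟩ := hn
  rw [pow_succ, pow_mul, pow_two, hV, one_pow, one_mul]

/-- **(R5)** -/
theorem fixed_le [Finite H] {ρ : H →* MulAut V} (hV : ∀ v : V, v * v = 1) {P K : Subgroup H}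
    (hodd : Odd (P.relIndex K)) {w : V} (hw : w ∈ CS ρ P) : w ∈ CM ρ K ⊔ CS ρ K := by
  classical
  let P' : Subgroup K := P.subgroupOf K
  have : Fintype (K ⧸ P') := Fintype.ofFinite _
  let f : K ⧸ P' → V := Quotient.lift (fun k : K => ρ (k : H) w) (by
    intro a b hab
    have h1 : a⁻¹ * b ∈ P' := QuotientGroup.leftRel_apply.1 hab
    have h2 : (a : H)⁻¹ * b ∈ P := h1
    have h3 := hw _ h2
    show ρ (a : H) w = ρ (b : H) w
    conv_lhs => rw [← h3]
    rw [← MulAut.mul_apply, ← map_mul, mul_inv_cancel_left])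
  have hf : ∀ k : K, f (k : K ⧸ P') = ρ (k : H) w := fun k => rfl
  let t : V := ∏ q, f q
  have ht : t ∈ CS ρ K := by
    intro k hk
    show ρ k (∏ q, f q) = ∏ q, f q
    rw [map_prod]
    refine Fintype.prod_equiv (MulAction.toPerm (⟨k, hk⟩ : K)) _ _ ?_
    intro q
    obtain ⟨q, rfl⟩ := QuotientGroup.mk_surjective q
    show ρ k (f (q : K ⧸ P')) = f (((⟨k, hk⟩ : K) * q : K) : K ⧸ P')
    rw [hf, hf, Subgroup.coe_mul, map_mul, MulAut.mul_apply]
  have h1 : ∀ s : Finset (K ⧸ P'), (∏ q ∈ s, f q) * (w ^ s.card)⁻¹ ∈ CM ρ K := by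
    intro s
    induction s using Finset.induction_on with
    | empty => simp [one_mem]
    | insert q s hq ih =>
      rw [Finset.prod_insert hq, Finset.card_insert_of_notMem hq, pow_succ']
      have h2 : f q * w⁻¹ ∈ CM ρ K := by
        obtain ⟨q, rfl⟩ := QuotientGroup.mk_surjective q
        rw [hf]
        exact mem_CM q.2 w
      have h3 := mul_mem h2 ih
      rwa [mul_mul_mul_comm, ← mul_inv] at h3
  have h2 := h1 Finset.univ
  have h3 : w ^ (Finset.univ : Finset (K ⧸ P')).card = w := by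
    apply pow_eq_of_odd hV
    have h4 : (Finset.univ : Finset (K ⧸ P')).card = P.relIndex K := by
      rw [Finset.card_univ, ← Nat.card_eq_fintype_card]; rfl
    rw [h4]
    exact hodd
  rw [h3] at h2
  have h4 : w = ((t * w⁻¹)⁻¹) * t := by group
  rw [h4]
  exact mul_mem (Subgroup.mem_sup_left (inv_mem h2)) (Subgroup.mem_sup_right ht)

theorem odd_relIndex [Finite H] (T : Sylow 2 H) (K : Subgroup H) [K.Normal] :
    Odd ((T : Subgroup H).relIndex K) := by
  have : Fact (Nat.Prime 2) := ⟨Nat.prime_two⟩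
  have h1 : (T : Subgroup H).relIndex K = (T : Subgroup H).relIndex ((T : Subgroup H) ⊔ K) := by
    have e1 : K.relIndex ((T : Subgroup H) ⊔ K) = K.relIndex (T : Subgroup H) := by
      rw [Subgroup.relIndex_sup_right]
    have e2 : Nat.card K * K.relIndex ((T : Subgroup H) ⊔ K) = Nat.card ((T : Subgroup H) ⊔ K : Subgroup H) :=
      card_mul_relIndex le_sup_right
    have e3 : Nat.card (T : Subgroup H) * (T : Subgroup H).relIndex ((T : Subgroup H) ⊔ K) =
        Nat.card ((T : Subgroup H) ⊔ K : Subgroup H) := card_mul_relIndex le_sup_left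
    have e4 : Nat.card ((T : Subgroup H) ⊓ K : Subgroup H) * (T : Subgroup H).relIndex K = Nat.card K := by
      rw [← Subgroup.inf_relIndex_right]
      exact card_mul_relIndex inf_le_right
    have e5 : Nat.card ((T : Subgroup H) ⊓ K : Subgroup H) * K.relIndex (T : Subgroup H) =
        Nat.card (T : Subgroup H) := by
      rw [← Subgroup.inf_relIndex_left]
      exact card_mul_relIndex inf_le_left
    have h0 : 0 < Nat.card ((T : Subgroup H) ⊓ K : Subgroup H) := Nat.card_pos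
    have h0' : 0 < K.relIndex (T : Subgroup H) := Nat.pos_of_ne_zero Subgroup.index_ne_zero_of_finite
    rw [e1, ← e4] at e2
    rw [← e2, ← e5] at e3
    have h9 : Nat.card ((T : Subgroup H) ⊓ K : Subgroup H) * K.relIndex (T : Subgroup H) *
        ((T : Subgroup H).relIndex ((T : Subgroup H) ⊔ K)) =
        Nat.card ((T : Subgroup H) ⊓ K : Subgroup H) * K.relIndex (T : Subgroup H) *
        ((T : Subgroup H).relIndex K) := by
      rw [e3]; ring
    exact (Nat.eq_of_mul_eq_mul_left (Nat.mul_pos h0 h0') h9).symm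
  have h2 : (T : Subgroup H).relIndex ((T : Subgroup H) ⊔ K) * ((T : Subgroup H) ⊔ K).index =
      (T : Subgroup H).index := Subgroup.relIndex_mul_index le_sup_left
  rw [← Nat.not_even_iff_odd, even_iff_two_dvd]
  intro h3
  have h4 := T.not_dvd_index
  apply h4
  rw [← h2, ← h1]
  exact h3.mul_right _

/-- a 2-group has nontrivial fixed points in a nontrivial invariant subgroup -/
theorem exists_fixed [Finite V] {ρ : H →* MulAut V} (hV : ∀ v : V, v * v = 1) {P : Subgroup H} (hP : IsPGroup 2 P)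
    {W : Subgroup V} (hW : ∀ p ∈ P, ∀ w ∈ W, ρ p w ∈ W) (hne : W ≠ ⊥) : ∃ w ∈ W, w ≠ 1 ∧ w ∈ CS ρ P := by
  have : Fact (Nat.Prime 2) := ⟨Nat.prime_two⟩
  let _ : MulAction P W := MulAction.compHom W (res ρ P W hW)
  have h2 : 2 ∣ Nat.card W := by
    have hp : IsPGroup 2 W := (isPGroup_two hV).to_subgroup W
    obtain ⟨n, hn⟩ := hp.exists_card_eq
    rcases Nat.eq_zero_or_pos n with h | h
    · exfalso
      rw [h, pow_zero] at hn
      exact hne (Subgroup.card_eq_one.1 hn)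
    · rw [hn]; exact dvd_pow_self 2 h.ne'
  obtain ⟨v, hv, hv1⟩ := hP.exists_fixed_point_of_prime_dvd_card_of_fixed_point (α := W) h2 (a := 1) (by
    intro a
    exact map_one (res ρ P W hW a))
  refine ⟨v, v.2, ?_, ?_⟩
  · intro h3
    exact hv1 (Subtype.ext h3.symm)
  · intro a ha
    have h3 := hv ⟨a, ha⟩
    exact congrArg Subtype.val h3

/-! ### bad modules and (IRR) -/

/-- `V = ⟨Z^H⟩`, `Z = C_V(T)`, and each `z ∈ Z`, `z ≠ 1`, is bad -/
structure Bad (ρ : H →* MulAut V) (T : Sylow 2 H) : Prop where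
  gen : ∀ W : Subgroup V, Inv ρ W → CS ρ (T : Subgroup H) ≤ W → W = ⊤
  cl : ∀ z ∈ CS ρ (T : Subgroup H), z ≠ 1 → ∃ B : Subgroup V, z ∈ B ∧ CS ρ (T : Subgroup H) ≤ B ∧
    (∀ h, ρ h z = z → ∀ b ∈ B, ρ h b ∈ B) ∧ ∀ N ≤ B, Inv ρ N → N = ⊥

namespace Bad

variable [Finite H] {ρ : H →* MulAut V} {T : Sylow 2 H}

/-- **(R5)** `V = [V,K] C_V(K)` -/
theorem sup_eq_top (h : Bad ρ T) (hV : ∀ v : V, v * v = 1) (K : Subgroup H) [K.Normal] :
    CM ρ K ⊔ CS ρ K = ⊤ := by
  apply h.gen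
  · intro g w hw
    rw [Subgroup.mem_sup] at hw
    obtain ⟨x, hx, y, hy, rfl⟩ := hw
    rw [map_mul]
    exact mul_mem (Subgroup.mem_sup_left (CM_inv ρ K g x hx)) (Subgroup.mem_sup_right (CS_inv ρ K g y hy))
  · intro w hw
    exact fixed_le hV (odd_relIndex T K) hw

/-- a normal subgroup generated by elements of odd order is nontrivial on `C` if it is nontrivial on `[V,K]` -/
theorem _root_.Cfsg.Agent.OddCyclic.EmpC.trivial_of_comm [Finite V] (hV : ∀ v : V, v * v = 1) {K : Subgroup H}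
    (hO : K ≤ Subgroup.closure {k | k ∈ K ∧ Odd (orderOf k)}) {B : Subgroup V}
    (h : ∀ k ∈ K, ∀ l ∈ K, ∀ b ∈ B, ρ l (ρ k b * b⁻¹) = ρ k b * b⁻¹) : ∀ k ∈ K, ∀ b ∈ B, ρ k b = b := by
  intro k hk b hb
  have h1 : K ≤ FFSl2.stb ρ b ⊓ K := by
    refine hO.trans ?_
    rw [Subgroup.closure_le]
    rintro y ⟨hy, hodd⟩
    refine ⟨?_, hy⟩
    show ρ y b = b
    rw [← mul_inv_eq_one]
    refine eq_one_of_fix hV hodd (ρ := ρ) ⟨b, rfl⟩ ?_
    exact h y hy y hy b hb
  exact (h1 hk).1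

/-- **(IRR)** -/
theorem irr [Finite V] (h : Bad ρ T) (hV : ∀ v : V, v * v = 1) {K : Subgroup H} [K.Normal]
    (hO : K ≤ Subgroup.closure {k | k ∈ K ∧ Odd (orderOf k)}) (hne : ∃ k ∈ K, ∃ v, ρ k v ≠ v)
    (h1 : ∀ W : Subgroup V, (∀ k ∈ K, ∀ w ∈ W, ρ k w ∈ W) →
      (∀ k ∈ K, ∀ w ∈ W, ρ k w = w) ∨ (∀ k ∈ K, ∀ v, ρ k v * v⁻¹ ∈ W)) :
    CS ρ K = ⊥ ∧ CM ρ K = ⊤ ∧ ∀ W : Subgroup V, (∀ k ∈ K, ∀ w ∈ W, ρ k w ∈ W) → W = ⊥ ∨ W = ⊤ := by
  have : Fact (Nat.Prime 2) := ⟨Nat.prime_two⟩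
  have hbot : CS ρ K = ⊥ := by
    by_contra hC
    obtain ⟨z, hzC, hz1, hzT⟩ := exists_fixed hV T.2 (W := CS ρ K) (fun p _ w hw => CS_inv ρ K p w hw) hC
    obtain ⟨B, hzB, hTB, hBinv, hBbad⟩ := h.cl z hzT hz1
    have hBK : ∀ k ∈ K, ∀ b ∈ B, ρ k b ∈ B := fun k hk => hBinv k (hzC k hk)
    -- `K` is nontrivial on `B`
    have hnt : ¬ ∀ k ∈ K, ∀ b ∈ B, ρ k b = b := by
      intro h2
      have h3 := h.gen (CS ρ K) (CS_inv ρ K) (fun w hw k hk => h2 k hk w (hTB hw))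
      obtain ⟨k, hk, v, hv⟩ := hne
      exact hv (CS_eq_top.1 h3 k hk v)
    let W : Subgroup V := Subgroup.closure {x | ∃ k ∈ K, ∃ b ∈ B, x = ρ k b * b⁻¹}
    have hWB : W ≤ B := by
      rw [Subgroup.closure_le]
      rintro _ ⟨k, hk, b, hb, rfl⟩
      exact mul_mem (hBK k hk b hb) (inv_mem hb)
    have hWK : ∀ k ∈ K, ∀ w ∈ W, ρ k w ∈ W := by
      intro k hk w hw
      have h3 : W ≤ W.comap (ρ k : V →* V) := by
        show Subgroup.closure _ ≤ _
        rw [Subgroup.closure_le]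
        rintro _ ⟨l, hl, b, hb, rfl⟩
        show ρ k (ρ l b * b⁻¹) ∈ W
        rw [map_mul, map_inv, apply_eq]
        exact Subgroup.subset_closure ⟨k * l * k⁻¹, mul_mem (mul_mem hk hl) (inv_mem hk), _, hBK k hk b hb, rfl⟩
      exact h3 hw
    rcases h1 W hWK with h2 | h2
    · apply hnt
      refine trivial_of_comm hV hO ?_
      intro k hk l hl b hb
      exact h2 l hl _ (Subgroup.subset_closure ⟨k, hk, b, hb, rfl⟩)
    · have h3 : CM ρ K ≤ B := (CM_le h2).trans hWB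
      have h4 := hBbad _ h3 (CM_inv ρ K)
      obtain ⟨k, hk, v, hv⟩ := hne
      exact hv (CM_eq_bot.1 h4 k hk v)
  have htop : CM ρ K = ⊤ := by
    have := h.sup_eq_top hV K
    rwa [hbot, sup_bot_eq] at this
  refine ⟨hbot, htop, ?_⟩
  intro W hW
  rcases h1 W hW with h2 | h2
  · left
    rw [eq_bot_iff, ← hbot]
    exact fun w hw k hk => h2 k hk w hw
  · right
    rw [eq_top_iff, ← htop]
    exact CM_le h2

end Bad

end Cfsg.Agent.OddCyclic.EmpC
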