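import Mathlib
import Cfsg.Agent.OddCyclic.EmpC.Irr
import Cfsg.Agent.OddCyclic.FFStruct

/-!
# CLAIM C, section 3: `E` centralises the Fitting subgroup
-/

set_option autoImplicit false
set_option linter.unusedSectionVars false

namespace Cfsg.Agent.OddCyclic.EmpC

open Subgroup Cfsg.Agent.OddCyclic.T1Module Cfsg.Agent.OddCyclic.FFBasic Cfsg.Agent.OddCyclic.FFRed
open Cfsg.Agent.OddCyclic.T1Defs Cfsg.Agent.OddCyclic.CompBasic Cfsg.Agent.OddCyclic.FFStruct
open Cfsg.Agent.OddCyclic.PumpMain (KZero)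
open Cfsg.Agent.SignalizersComponents.Components

variable {H : Type*} [Group H] {V : Type*} [CommGroup V]

section coprime

variable {ρ : H →* MulAut V} {y : H}

theorem range_inf_fx (hV : ∀ v : V, v * v = 1) (hy : Odd (orderOf y)) : (cm ρ y).range ⊓ fx ρ y = ⊥ := by
  rw [eq_bot_iff]
  rintro w ⟨hw, hw'⟩
  exact Subgroup.mem_bot.2 (eq_one_of_fix hV hy hw hw')

theorem range_sup_fx [Finite V] (hV : ∀ v : V, v * v = 1) (hy : Odd (orderOf y)) :
    (cm ρ y).range ⊔ fx ρ y = ⊤ := by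
  have h1 : (fx ρ y).relIndex ((cm ρ y).range ⊔ fx ρ y) = (fx ρ y).index := by
    rw [Subgroup.relIndex_sup_right, ← Subgroup.inf_relIndex_right, inf_comm, range_inf_fx hV hy,
      Subgroup.relIndex_bot_left, card_range_cm]
  have h2 : Nat.card (fx ρ y) * (fx ρ y).relIndex ((cm ρ y).range ⊔ fx ρ y) =
      Nat.card ((cm ρ y).range ⊔ fx ρ y : Subgroup V) := card_mul_relIndex le_sup_right
  rw [h1, (fx ρ y).card_mul_index] at h2
  exact Subgroup.eq_top_of_card_eq _ h2.symm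

/-- elements normalising `⟨y⟩` act on `C_V(y)` -/
theorem apply_mem_fx {z : H} (h : z⁻¹ * y * z ∈ zpowers y) {v : V} (hv : v ∈ fx ρ y) : ρ z v ∈ fx ρ y := by
  obtain ⟨k, hk⟩ := h
  have hk' : y ^ k = z⁻¹ * y * z := hk
  rw [mem_fx]
  have h1 : ρ y (ρ z v) = ρ z (ρ (y ^ k) v) := by
    rw [← MulAut.mul_apply, ← MulAut.mul_apply, ← map_mul, ← map_mul, hk']
    congr 2
    group
  rw [h1]
  have h2 : ρ (y ^ k) v = v := by
    obtain ⟨m, rfl | rfl⟩ := k.eq_nat_or_neg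
    · rw [zpow_natCast]; exact fx_pow ρ hv m
    · rw [_root_.zpow_neg, zpow_natCast]; exact fx_inv ρ (fx_pow ρ hv m)
  rw [h2]

end coprime

variable [Finite H] [Finite V] {ρ : H →* MulAut V} {E : Subgroup H} {R D : Subgroup V} {c d : ℕ}

/-- the situation: `a ∈ E` inverts `x`, of odd prime order, `⟨x⟩` normal -/
structure InvX (ρ : H →* MulAut V) (E : Subgroup H) (a x : H) (r : ℕ) : Prop where
  memE : a ∈ E
  prime : r.Prime
  ne_two : r ≠ 2
  ord : orderOf x = r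
  nor : (zpowers x).Normal
  inv : a * x * a⁻¹ = x⁻¹

namespace InvX

variable {a x : H} {r : ℕ}

theorem odd (s : InvX ρ E a x r) : Odd (orderOf x) := by rw [s.ord]; exact s.prime.odd_of_ne_two s.ne_two

theorem ne_one (s : InvX ρ E a x r) : x ≠ 1 := by
  intro h
  have := s.ord
  rw [h, orderOf_one] at this
  exact s.prime.one_lt.ne this

theorem conj_mem (s : InvX ρ E a x r) (g : H) : g * x * g⁻¹ ∈ zpowers x := s.nor.conj_mem x (mem_zpowers x) g

theorem conj_mem' (s : InvX ρ E a x r) (g : H) : g⁻¹ * x * g ∈ zpowers x := by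
  have := s.conj_mem g⁻¹
  rwa [inv_inv] at this

/-- the centraliser of `x` in `E` -/
def E1 (E : Subgroup H) (x : H) : Subgroup H := E ⊓ centralizer {x}

theorem mem_E1 {e : H} : e ∈ E1 E x ↔ e ∈ E ∧ e * x = x * e := by
  rw [E1, Subgroup.mem_inf, mem_centralizer_singleton_iff]

theorem E1_le : E1 E x ≤ E := inf_le_left

variable (h : Cfg ρ E R D c d) (hV : ∀ v : V, v * v = 1) (hN : NFF ρ) (hρ : Function.Injective ρ)

include h hV hN hρ

theorem nontriv {y : H} (hy : y ≠ 1) : ∃ v, ρ y v ≠ v := by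
  by_contra hcon
  push Not at hcon
  apply hy
  apply hρ
  rw [map_one]
  ext v
  exact hcon v

theorem eq_or (s : InvX ρ E a x r) {e : H} (he : e ∈ E) : e * x = x * e ∨ e * x * e⁻¹ = x⁻¹ :=
  eq_or_inv s.prime s.ord (h.sq e he) (s.conj_mem e)

theorem not_both (s : InvX ρ E a x r) {e : H} (h1 : e * x = x * e) (h2 : e * x * e⁻¹ = x⁻¹) : False := by
  have h3 : x = x⁻¹ := by
    rw [← h2, h1]; group
  have h4 : x ^ 2 = 1 := by
    rw [pow_two]
    nth_rewrite 2 [h3]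
    rw [mul_inv_cancel]
  have h5 := orderOf_dvd_of_pow_eq_one h4
  rw [s.ord, Nat.dvd_prime Nat.prime_two] at h5
  rcases h5 with h5 | h5
  · exact s.prime.one_lt.ne' h5
  · exact s.ne_two h5

theorem a_ne_one (s : InvX ρ E a x r) : a ≠ 1 := by
  intro h1
  refine not_both h hV hN hρ s (e := a) ?_ s.inv
  rw [h1, one_mul, mul_one]

/-- `C_V(x) ≤ C_V(E)` -/
theorem fx_le (s : InvX ρ E a x r) : fx ρ x ≤ CS ρ E := by
  have h1 : ∀ b ∈ E, ∀ w ∈ (cm ρ x).range, ρ b w ∈ (cm ρ x).range := by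
    intro b hb w hw
    rcases eq_or h hV hN hρ s hb with h2 | h2
    · exact apply_mem_range ρ h2 hw
    · exact apply_mem_range_of_inv ρ h2 hw
  have h2 : ∀ b ∈ E, ∀ w ∈ fx ρ x, ρ b w ∈ fx ρ x := fun b _ w hw => apply_mem_fx (s.conj_mem' b) hw
  rcases h.trivial_or hV hN h1 h2 (range_inf_fx hV s.odd) (range_sup_fx hV s.odd) with h3 | h3
  · exfalso
    obtain ⟨v, hv⟩ := nontriv h hV hN hρ s.ne_one
    apply hv
    have h4 : ∀ w ∈ (cm ρ x).range, ρ x w = w := by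
      intro w hw
      apply fx_of_sq ρ s.odd
      have hxw : ρ x w ∈ (cm ρ x).range := apply_mem_range ρ rfl hw
      have h5 : ρ a (ρ x w) = ρ x w := h3 hxw a s.memE
      have h6 : ρ a w = w := h3 hw a s.memE
      have h7 : ρ (a * x) w = ρ (x⁻¹ * a) w := by
        have : a * x = x⁻¹ * a := by rw [← s.inv]; group
        rw [this]
      rw [map_mul, map_mul, MulAut.mul_apply, MulAut.mul_apply, h5, h6] at h7
      rw [mem_fx, map_mul, MulAut.mul_apply, h7, ← MulAut.mul_apply, ← map_mul, mul_inv_cancel, map_one]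
      rfl
    have h5 := eq_one_of_fix hV s.odd (ρ := ρ) ⟨v, rfl⟩ (h4 _ ⟨v, rfl⟩)
    rwa [cm_apply, mul_inv_eq_one] at h5
  · exact h3

theorem fx_le_D (s : InvX ρ E a x r) : fx ρ x ≤ D := (fx_le h hV hN hρ s).trans h.CSE_le

/-- the image of `D` under `x` -/
def Dx (ρ : H →* MulAut V) (D : Subgroup V) (x : H) : Subgroup V := D.map (ρ x : V →* V)

omit [Finite H] [Finite V] h hV hN hρ in
theorem mem_Dx {v : V} : v ∈ Dx ρ D x ↔ ∃ w ∈ D, ρ x w = v := Iff.rfl

/-- `D D^x = V` -/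
theorem sup_Dx (s : InvX ρ E a x r) : D ⊔ Dx ρ D x = ⊤ := by
  rw [eq_top_iff, ← range_sup_fx (ρ := ρ) hV s.odd]
  refine sup_le ?_ ((fx_le_D h hV hN hρ s).trans le_sup_left)
  -- `x⁻²` is a product of two conjugates of `a`
  have h1 : ∀ v, ρ (x⁻¹ * x⁻¹) v * v⁻¹ ∈ D ⊔ Dx ρ D x := by
    intro v
    have e1 : x⁻¹ * x⁻¹ = a * (x * a * x⁻¹) := by
      have : a * x = x⁻¹ * a := by rw [← s.inv]; group
      calc x⁻¹ * x⁻¹ = x⁻¹ * (a * a) * x⁻¹ := by rw [h.sq a s.memE, mul_one]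
        _ = (x⁻¹ * a) * a * x⁻¹ := by group
        _ = (a * x) * a * x⁻¹ := by rw [this]
        _ = _ := by group
    set a' := x * a * x⁻¹ with ha'
    have e2 : ρ (x⁻¹ * x⁻¹) v * v⁻¹ = (ρ a (ρ a' v) * (ρ a' v)⁻¹) * (ρ a' v * v⁻¹) := by
      rw [e1, map_mul, MulAut.mul_apply]; group
    rw [e2]
    refine mul_mem (Subgroup.mem_sup_left (h.comm_mem _ s.memE)) (Subgroup.mem_sup_right ?_)
    refine ⟨ρ a (ρ x⁻¹ v) * (ρ x⁻¹ v)⁻¹, h.comm_mem _ s.memE, ?_⟩
    show ρ x (ρ a (ρ x⁻¹ v) * (ρ x⁻¹ v)⁻¹) = _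
    have e3 : ρ x (ρ a (ρ x⁻¹ v)) = ρ a' v := by
      rw [← MulAut.mul_apply, ← MulAut.mul_apply, ← map_mul ρ, ← map_mul ρ, ha', mul_assoc]
    have e4 : ρ x (ρ x⁻¹ v) = v := by
      rw [← MulAut.mul_apply, ← map_mul ρ, mul_inv_cancel, map_one]; rfl
    rw [map_mul (ρ x), map_inv (ρ x), e3, e4]
  -- `x` is a power of `x⁻²`
  have h2 : ∀ n : ℕ, ∀ v, ρ ((x⁻¹ * x⁻¹) ^ n) v * v⁻¹ ∈ D ⊔ Dx ρ D x := by
    intro n
    induction n with
    | zero => intro v; rw [pow_zero, map_one, MulAut.one_apply, mul_inv_cancel]; exact one_mem _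
    | succ n ih =>
      intro v
      have e2 : ρ ((x⁻¹ * x⁻¹) ^ (n + 1)) v * v⁻¹ = (ρ ((x⁻¹ * x⁻¹) ^ n) (ρ (x⁻¹ * x⁻¹) v) * (ρ (x⁻¹ * x⁻¹) v)⁻¹) *
          (ρ (x⁻¹ * x⁻¹) v * v⁻¹) := by
        rw [pow_succ, map_mul, MulAut.mul_apply]; group
      rw [e2]
      exact mul_mem (ih _) (h1 v)
  obtain ⟨k, hk⟩ := s.odd
  have h3 : (x⁻¹ * x⁻¹) ^ k = x := by
    rw [← pow_two, ← pow_mul, inv_pow, inv_eq_iff_mul_eq_one, ← pow_succ, ← hk, pow_orderOf_eq_one]
  rintro _ ⟨v, rfl⟩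
  rw [cm_apply]
  have := h2 k v
  rwa [h3] at this

/-- `[V, E₁, E₁] = 1` -/
theorem quad (s : InvX ρ E a x r) {e e' : H} (he : e ∈ E1 E x) (he' : e' ∈ E1 E x) (v : V) :
    ρ e' (ρ e v * v⁻¹) = ρ e v * v⁻¹ := by
  rw [mem_E1] at he he'
  have hv : v ∈ D ⊔ Dx ρ D x := by rw [sup_Dx h hV hN hρ s]; trivial
  obtain ⟨u, hu, w, hw, rfl⟩ := Subgroup.mem_sup.1 hv
  obtain ⟨w, hwD, rfl⟩ := mem_Dx.1 hw
  have h1 : ρ e (u * ρ x w) * (u * ρ x w)⁻¹ = (ρ e u * u⁻¹) * ρ x (ρ e w * w⁻¹) := by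
    have h2 : ρ e (ρ x w) = ρ x (ρ e w) := by
      rw [← MulAut.mul_apply, ← MulAut.mul_apply, ← map_mul, ← map_mul, he.2]
    rw [map_mul, h2, mul_inv, mul_mul_mul_comm, map_mul (ρ x), map_inv]
  rw [h1, map_mul, h.fix_apply (h.dcomm u hu e he.1) he'.1]
  congr 1
  have h3 := h.fix_apply (h.dcomm w hwD e he.1) he'.1
  rw [← MulAut.mul_apply, ← map_mul ρ, he'.2, map_mul ρ, MulAut.mul_apply, h3]

theorem mem_E1_of (s : InvX ρ E a x r) {e : H} (he : e ∈ E) (hne : e ∉ E1 E x) : a * e ∈ E1 E x := by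
  rw [mem_E1] at hne ⊢
  refine ⟨mul_mem s.memE he, ?_⟩
  rcases eq_or h hV hN hρ s he with h1 | h1
  · exact absurd ⟨he, h1⟩ hne
  · have h2 : e * x = x⁻¹ * e := by rw [← h1]; group
    have h3 : a * x⁻¹ = x * a := by
      have := s.inv
      have h4 : a * x⁻¹ * a⁻¹ = x := by rw [← inv_inj, mul_inv_rev, mul_inv_rev, inv_inv, inv_inv, ← mul_assoc, this]
      calc a * x⁻¹ = a * x⁻¹ * a⁻¹ * a := by group
        _ = x * a := by rw [h4]
    rw [mul_assoc, h2, ← mul_assoc, h3, mul_assoc]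

theorem card_E_le (s : InvX ρ E a x r) : Nat.card E ≤ 2 * Nat.card (E1 E x) := by
  classical
  have h1 : Nat.card E ≤ Nat.card (Bool × E1 E x) := by
    refine Nat.card_le_card_of_injective (fun e : E => if he : (e : H) ∈ E1 E x then (true, ⟨(e : H), he⟩) else
      (false, ⟨a * e, mem_E1_of h hV hN hρ s e.2 he⟩)) ?_
    intro e e' hee
    dsimp only at hee
    split_ifs at hee with h1 h2 h2
    · rw [Prod.mk.injEq, Subtype.mk.injEq] at hee
      exact Subtype.ext hee.2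
    · rw [Prod.mk.injEq] at hee
      exact absurd hee.1 (by simp)
    · rw [Prod.mk.injEq] at hee
      exact absurd hee.1 (by simp)
    · rw [Prod.mk.injEq, Subtype.mk.injEq] at hee
      exact Subtype.ext (mul_left_cancel hee.2)
  rwa [Nat.card_prod, Nat.card_eq_fintype_card (α := Bool), Fintype.card_bool] at h1

theorem E1_ne_bot (s : InvX ρ E a x r) : E1 E x ≠ ⊥ := by
  intro h1
  have h2 := card_E_le h hV hN hρ s
  rw [h1, Subgroup.card_bot, h.card] at h2
  have h3 : 2 ^ 2 ≤ 2 ^ c := Nat.pow_le_pow_right (by norm_num) h.two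
  omega

/-- `|D| ≤ 2 |C_V(E₁)|` -/
theorem card_D_le (s : InvX ρ E a x r) : Nat.card D ≤ 2 * Nat.card (CS ρ (E1 E x)) := by
  obtain ⟨v, hv⟩ := h.exists_notMem
  have h1 : Nat.card (E1 E x × R) ≤ Nat.card (CS ρ (E1 E x)) := by
    refine Nat.card_le_card_of_injective (fun p : E1 E x × R => (⟨ρ p.1 v * v⁻¹ * p.2, ?_⟩ : CS ρ (E1 E x))) ?_
    · refine mul_mem ?_ ?_
      · intro e he
        exact quad h hV hN hρ s p.1.2 he v
      · exact fun e he => h.fix p.2.2 e (E1_le he)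
    · rintro ⟨e, u⟩ ⟨e', u'⟩ hee
      have h2 : ρ (e : H) v * v⁻¹ * u = ρ (e' : H) v * v⁻¹ * u' := congrArg Subtype.val hee
      have heE := E1_le e.2
      have heE' := E1_le e'.2
      have h3 : (ρ (e : H) v * v⁻¹) * (ρ (e' : H) v * v⁻¹) ∈ R := by
        have h4 : (ρ (e : H) v * v⁻¹) = (ρ (e' : H) v * v⁻¹) * (u' * u) := by
          have : (ρ (e : H) v * v⁻¹ * u) * u = (ρ (e' : H) v * v⁻¹ * u') * u := by rw [h2]
          rwa [mul_assoc, hV, mul_one, mul_assoc] at this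
        rw [h4, mul_comm (ρ (e' : H) v * v⁻¹) _, mul_assoc, hV, mul_one]
        exact mul_mem u'.2 u.2
      have h5 := mul_mem (h.comm_mul v heE heE') h3
      rw [inv_mul_cancel_right] at h5
      have h6 := h.inj v hv _ (mul_mem heE heE') h5
      have h7 : (e : H) = e' := by
        rw [mul_eq_one_iff_eq_inv.1 h6]
        exact inv_eq_of_mul_eq_one_left (h.sq _ heE')
      have h8 : e = e' := Subtype.ext h7
      subst h8
      have h9 : (u : V) = u' := mul_left_cancel h2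
      rw [Subtype.ext h9]
  rw [Nat.card_prod] at h1
  rw [h.card_D hV]
  calc Nat.card E * Nat.card R ≤ 2 * Nat.card (E1 E x) * Nat.card R := Nat.mul_le_mul_right _ (card_E_le h hV hN hρ s)
    _ ≤ 2 * Nat.card (CS ρ (E1 E x)) := by rw [mul_assoc]; exact Nat.mul_le_mul_left _ h1

/-- the numerical outcome -/
theorem numbers (s : InvX ρ E a x r) : Nat.card E = 4 ∧ Nat.card (E1 E x) = 2 ∧ D.index = 2 ∧
    (CS ρ (E1 E x)).index = 4 := by
  set C := CS ρ (E1 E x) with hC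
  have hCD : C ≤ D := h.CS_le E1_le (E1_ne_bot h hV hN hρ s)
  have hCDx : C ≤ Dx ρ D x := by
    intro w hw
    refine ⟨ρ x⁻¹ w, hCD ?_, ?_⟩
    · intro e he
      have he' := mem_E1.1 he
      have h1 : ρ e (ρ x⁻¹ w) = ρ x⁻¹ (ρ e w) := by
        rw [← MulAut.mul_apply, ← MulAut.mul_apply, ← map_mul, ← map_mul]
        congr 2
        have h2 := he'.2
        calc e * x⁻¹ = x⁻¹ * (x * e) * x⁻¹ := by group
          _ = x⁻¹ * (e * x) * x⁻¹ := by rw [h2]
          _ = x⁻¹ * e := by group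
      rw [h1, hw e he]
    · show ρ x (ρ x⁻¹ w) = w
      rw [← MulAut.mul_apply, ← map_mul, mul_inv_cancel, map_one]; rfl
  -- `|V : D| = |D^x : D ∩ D^x| ≤ |D^x : C| = |D : C| ≤ 2`
  have hcardx : Nat.card (Dx ρ D x) = Nat.card D :=
    Subgroup.card_map_of_injective (K := D) (f := (ρ x : V →* V)) (ρ x).injective
  have h1 : D.index = D.relIndex (Dx ρ D x) := by
    rw [← Subgroup.relIndex_top_right, ← sup_Dx h hV hN hρ s, sup_comm, Subgroup.relIndex_sup_right]
  have h2 : Nat.card (D ⊓ Dx ρ D x : Subgroup V) * D.relIndex (Dx ρ D x) = Nat.card D := by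
    rw [← hcardx, ← Subgroup.inf_relIndex_right]
    exact card_mul_relIndex inf_le_right
  have h3 : Nat.card C ≤ Nat.card (D ⊓ Dx ρ D x : Subgroup V) := Subgroup.card_le_of_le (le_inf hCD hCDx)
  have h4 := card_D_le h hV hN hρ s
  rw [← hC] at h4
  have hpos : 0 < Nat.card C := Nat.card_pos
  have h5 : D.index ≤ 2 := by
    rw [h1]
    by_contra hcon
    push Not at hcon
    have h6 : Nat.card C * 3 ≤ Nat.card D := by
      rw [← h2]
      exact Nat.mul_le_mul h3 hcon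
    omega
  have h6 : D.index = 2 := by
    have h7 := h.index
    have h8 : 2 ^ 1 ≤ 2 ^ d := Nat.pow_le_pow_right (by norm_num) h.pos
    omega
  have h7 : Nat.card C * C.index = Nat.card D * 2 := by
    rw [C.card_mul_index, ← h6, D.card_mul_index]
  have h8 : C.index ≤ 4 := by
    by_contra hcon
    push Not at hcon
    have : Nat.card C * 5 ≤ Nat.card C * C.index := Nat.mul_le_mul_left _ hcon
    omega
  have h9 := hN (E1 E x) (fun e he => h.sq e (E1_le he)) (E1_ne_bot h hV hN hρ s)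
  rw [← hC] at h9
  have h10 := card_E_le h hV hN hρ s
  have h11 : 2 ^ 2 ≤ 2 ^ c := Nat.pow_le_pow_right (by norm_num) h.two
  have h12 := h.card
  have h13 : Nat.card (E1 E x) ∣ Nat.card E := Subgroup.card_dvd_of_le E1_le
  obtain ⟨m, hm⟩ := index_pow hV C
  have h14 : Nat.card (E1 E x) ≤ 3 := by omega
  have h15 : ¬ 3 ∣ Nat.card E := by
    rw [h12]
    intro h16
    have := Nat.Prime.dvd_of_dvd_pow Nat.prime_three h16
    omega
  have h16 : Nat.card (E1 E x) = 2 := by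
    have h17 : Nat.card (E1 E x) ≠ 3 := fun h18 => h15 (h18 ▸ h13)
    omega
  have h17 : c = 2 := by
    have h18 : 2 ^ c ≤ 2 ^ 2 := by omega
    have := (Nat.pow_le_pow_iff_right (by norm_num : 1 < 2)).1 h18
    have := h.two
    omega
  have h18 : C.index = 4 := by
    have h19 : 2 < C.index := by omega
    rw [hm] at h19 h8 ⊢
    have h20 : m ≤ 2 := (Nat.pow_le_pow_iff_right (by norm_num : 1 < 2)).1 (by omega : 2 ^ m ≤ 2 ^ 2)
    interval_cases m <;> omega
  exact ⟨by rw [h12, h17]; norm_num, h16, h6, h18⟩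

/-- `x` is nontrivial on `[V, e]` for `e ∈ C_E(x)`, `e ≠ 1` -/
theorem nontriv_range (s : InvX ρ E a x r) {e : H} (he : e ∈ E1 E x) (he1 : e ≠ 1) :
    ∃ w ∈ (cm ρ e).range, ρ x w ≠ w := by
  by_contra hcon
  push Not at hcon
  obtain ⟨heE, hex⟩ := mem_E1.1 he
  obtain ⟨v, hv⟩ := nontriv h hV hN hρ he1
  apply hv
  have h1 : v ∈ (cm ρ x).range ⊔ fx ρ x := by rw [range_sup_fx hV s.odd]; trivial
  obtain ⟨u, hu, w, hw, rfl⟩ := Subgroup.mem_sup.1 h1
  have h2 : ρ e w = w := fx_le h hV hN hρ s hw e heE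
  have h3 : ρ e u * u⁻¹ ∈ (cm ρ x).range := mul_mem (apply_mem_range ρ hex hu) (inv_mem hu)
  have h4 := eq_one_of_fix hV s.odd h3 (hcon _ ⟨u, rfl⟩)
  rw [mul_inv_eq_one] at h4
  rw [map_mul, h2, h4]

/-- an element of odd prime order acting nontrivially on `[V, e]` has order 3 -/
theorem eq_three (h4 : Nat.card E = 4) {e z : H} (he : e ∈ E) (he1 : e ≠ 1) {l : ℕ} (hl : l.Prime) (hl2 : l ≠ 2)
    (hz : orderOf z = l) (hze : z * e = e * z) (hne : ∃ w ∈ (cm ρ e).range, ρ z w ≠ w) : l = 3 := by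
  have hst : ∀ n ∈ zpowers z, ∀ w ∈ (cm ρ e).range, ρ n w ∈ (cm ρ e).range := by
    rintro _ ⟨k, rfl⟩ w hw
    exact apply_mem_range ρ ((show Commute z e from hze).zpow_left k) hw
  let z' : zpowers z := ⟨z, mem_zpowers z⟩
  have hz' : orderOf z' = l := by rw [← Subgroup.orderOf_coe]; exact hz
  obtain ⟨k, hk, h5, h6⟩ := prim (ρ := res ρ (zpowers z) (cm ρ e).range hst)
    (fun v => Subtype.ext (hV v)) hl hl2 hz' (by
      obtain ⟨w, hw, hw'⟩ := hne
      exact ⟨⟨w, hw⟩, fun h7 => hw' (congrArg Subtype.val h7)⟩)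
  have h7 : 2 ^ k ≤ 4 := by
    rw [← h5]
    have h8 : (fx (res ρ (zpowers z) (cm ρ e).range hst) z').index ≤ Nat.card (cm ρ e).range :=
      Nat.le_of_dvd Nat.card_pos (Subgroup.index_dvd_card _)
    refine h8.trans ?_
    rw [card_range_cm, ← h4]
    exact h.width hV he he1
  have h8 : k ≤ 2 := (Nat.pow_le_pow_iff_right (by norm_num : 1 < 2)).1 (by omega : 2 ^ k ≤ 2 ^ 2)
  have h9 : k = 1 ∨ k = 2 := by omega
  rcases h9 with rfl | rfl
  · exfalso
    have := Nat.le_of_dvd (by norm_num) h6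
    have := hl.two_le
    omega
  · exact (Nat.prime_dvd_prime_iff_eq hl Nat.prime_three).1 h6

theorem r_eq_three (s : InvX ρ E a x r) : r = 3 := by
  obtain ⟨h4, h5, -, -⟩ := numbers h hV hN hρ s
  obtain ⟨⟨e, he⟩, he1⟩ := Subgroup.ne_bot_iff_exists_ne_one.1 (E1_ne_bot h hV hN hρ s)
  have he1' : e ≠ 1 := fun h => he1 (Subtype.ext h)
  exact eq_three h hV hN hρ h4 (mem_E1.1 he).1 he1' s.prime s.ne_two s.ord (mem_E1.1 he).2.symm
    (nontriv_range h hV hN hρ s he he1')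

end InvX

open InvX in
/-- **section 3** : `E` centralises the Fitting subgroup of `H` -/
theorem fitting (h : Cfg ρ E R D c d) (hV : ∀ v : V, v * v = 1) (hN : NFF ρ) (hρ : Function.Injective ρ)
    (hc : OddCyc H) (hk : ∀ J : Subgroup H, IsSimpleGroup J → (∃ x y : J, x * y ≠ y * x) → KZero J)
    (h2 : pCore 2 H = ⊥) : ∀ a ∈ E, ∀ x ∈ fittingSubgroup H, a * x = x * a := by
  by_contra hcon
  push Not at hcon
  obtain ⟨a, ha, x, hx, hax⟩ := hcon
  obtain ⟨r, y, hr, hr2, hyF, hyo, hyn, hay, hay'⟩ := exists_inverted hc h2 (h.sq a ha) hx hax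
  have s : InvX ρ E a y r := ⟨ha, hr, hr2, hyo, hyn, hay⟩
  obtain rfl := r_eq_three h hV hN hρ s
  obtain ⟨h4, h5, -, -⟩ := numbers h hV hN hρ s
  obtain ⟨⟨e, he⟩, he1'⟩ := Subgroup.ne_bot_iff_exists_ne_one.1 (E1_ne_bot h hV hN hρ s)
  have he1 : e ≠ 1 := fun h => he1' (Subtype.ext h)
  obtain ⟨heE, hey⟩ := mem_E1.1 he
  -- `e` centralises the Fitting subgroup
  have heF : ∀ x ∈ fittingSubgroup H, e * x = x * e := by
    intro x hx
    by_contra hex
    obtain ⟨r', y', hr', hr2', hyF', hyo', hyn', hay1, hay''⟩ := exists_inverted hc h2 (h.sq e heE) hx hex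
    have s' : InvX ρ E e y' r' := ⟨heE, hr', hr2', hyo', hyn', hay1⟩
    obtain rfl := r_eq_three h hV hN hρ s'
    have hcyc := isCyclic_fitting hc h2
    have h7 : orderOf (⟨y', hyF'⟩ : fittingSubgroup H) = orderOf (⟨y, hyF⟩ : fittingSubgroup H) := by
      rw [Subgroup.orderOf_mk, Subgroup.orderOf_mk, hyo, hyo']
    have h8 := zpowers_eq_of_cyclic h7
    have h9 : (⟨y', hyF'⟩ : fittingSubgroup H) ∈ zpowers (⟨y, hyF⟩ : fittingSubgroup H) := by
      rw [← h8]; exact mem_zpowers _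
    obtain ⟨k, hk'⟩ := h9
    have h10 : y ^ k = y' := congrArg Subtype.val hk'
    apply hay''
    rw [← h10]
    exact (Commute.zpow_right (show Commute e y from hey) k).eq
  -- a component
  obtain ⟨K, hK, heK⟩ : ∃ K : Subgroup H, IsComponent K ∧ e ∉ centralizer (K : Set H) := by
    by_contra hcon
    push Not at hcon
    exact he1 (eq_one_of_centralizes h2 (h.sq e heE) heF hcon)
  have hn := component_normal hc hK
  have hs := simple_component hc h2 hK
  have hyK : ∀ k ∈ K, k * y = y * k := by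
    intro k hk'
    have h := layer_le_centralizer_fitting (component_le_layer hK hk')
    exact ((mem_centralizer_iff.mp h) y hyF).symm
  have hkz : KZero K := by
    refine hk K hs ?_
    by_contra hcon
    push Not at hcon
    exact quasisimple_not_isMulCommutative hK.2 ⟨⟨hcon⟩⟩
  have hsz : Cfsg.Lie.IsoSuzuki K := by
    by_contra hn'
    have h8 := mem_of_orderOf hc Nat.prime_three (by norm_num) hn (three_dvd_of_kZero hkz hn') hyo
    have h9 : y ∈ centralizer (K : Set H) := by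
      rw [mem_centralizer_iff]
      exact fun k hk' => hyK k hk'
    exact s.ne_one (inter_centralizer hc h2 hK y h8 h9)
  -- `K` is trivial on `C_V(y)`
  have hKfx : ∀ k ∈ K, fx ρ y ≤ fx ρ k := by
    have hinvfx : ∀ k ∈ K, ∀ v ∈ fx ρ y, ρ k v ∈ fx ρ y := by
      intro k hk' v hv
      refine apply_mem_fx ?_ hv
      rw [mul_assoc, ← hyK k hk', ← mul_assoc, inv_mul_cancel, one_mul]
      exact mem_zpowers y
    let N : Subgroup K :=
      { carrier := {k | ∀ v ∈ fx ρ y, ρ (k : H) v = v}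
        mul_mem' := fun {k l} hk' hl v hv => by
          show ρ ((k : H) * l) v = v
          rw [map_mul, MulAut.mul_apply, hl v hv, hk' v hv]
        one_mem' := fun v _ => by
          show ρ 1 v = v
          rw [map_one]; rfl
        inv_mem' := fun {k} hk' v hv => by
          show ρ ((k : H)⁻¹) v = v
          exact fx_inv ρ (hk' v hv) }
    have hNn : N.Normal := by
      refine ⟨fun n hn' g v hv => ?_⟩
      show ρ ((g : H) * n * (g : H)⁻¹) v = v
      rw [map_mul, map_mul, MulAut.mul_apply, MulAut.mul_apply, hn' _ (hinvfx _ (inv_mem g.2) v hv),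
        ← MulAut.mul_apply, ← map_mul, mul_inv_cancel, map_one]
      rfl
    rcases hs.eq_bot_or_eq_top_of_normal N hNn with h6 | h6
    · exfalso
      apply heK
      rw [mem_centralizer_iff]
      intro k hk'
      have h7 : k * (e * k⁻¹ * e⁻¹) ∈ K := mul_mem hk' (hn.conj_mem _ (inv_mem hk') e)
      have h8 : (⟨k * (e * k⁻¹ * e⁻¹), h7⟩ : K) ∈ N := by
        intro v hv
        show ρ (k * (e * k⁻¹ * e⁻¹)) v = v
        have h9 : ∀ w ∈ fx ρ y, ρ e w = w := fun w hw => InvX.fx_le h hV hN hρ s hw e heE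
        have h10 : ρ e⁻¹ v = v := fx_inv ρ (h9 v hv)
        rw [map_mul, map_mul, map_mul, MulAut.mul_apply, MulAut.mul_apply, MulAut.mul_apply, h10,
          h9 _ (hinvfx _ (inv_mem hk') v hv), ← MulAut.mul_apply, ← map_mul, mul_inv_cancel, map_one]
        rfl
      rw [h6, Subgroup.mem_bot] at h8
      have h9 : k * (e * k⁻¹ * e⁻¹) = 1 := congrArg Subtype.val h8
      have h10 : k * e = (k * (e * k⁻¹ * e⁻¹)) * (e * k) := by group
      rw [h9, one_mul] at h10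
      exact h10
    · intro k hk' v hv
      have h7 : (⟨k, hk'⟩ : K) ∈ N := by rw [h6]; trivial
      exact h7 v hv
  -- a real element
  obtain ⟨F, iF, iF', m, hm, hF, ⟨Rl⟩⟩ := Cfsg.Agent.ThreePrime.SzRel.exists_rel hsz
  have hρK : ∃ (g : K) (v : V), (ρ.comp K.subtype) g v ≠ v := by
    have := hs.toNontrivial
    obtain ⟨k, hk1⟩ := exists_ne (1 : K)
    obtain ⟨v, hv⟩ := nontriv h hV hN hρ (y := (k : H)) (fun h => hk1 (Subtype.ext h))
    exact ⟨k, v, hv⟩
  obtain ⟨z, -, -, -, hz⟩ := FFSz.exists_real hsz hV (ρ.comp K.subtype) hρK Rl hm hF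
  have h6 : (fx (ρ.comp K.subtype) z).index ≤ 16 := by
    have h7 : fx ρ y ≤ fx (ρ.comp K.subtype) z := hKfx z z.2
    have h8 : (fx (ρ.comp K.subtype) z).index ≤ (fx ρ y).index :=
      Nat.le_of_dvd (Nat.pos_of_ne_zero Subgroup.index_ne_zero_of_finite) (Subgroup.index_dvd_of_le h7)
    have h9 := half' ρ s.odd s.inv
    have h10 := h.width hV ha (a_ne_one h hV hN hρ s)
    rw [h4] at h10
    exact h8.trans (h9.trans (Nat.pow_le_pow_left h10 2))
  have h7 : 8 ≤ Fintype.card F := by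
    rw [hF]
    calc 8 = 2 ^ 3 := by norm_num
      _ ≤ 2 ^ (2 * m + 1) := Nat.pow_le_pow_right (by norm_num) (by omega)
  have h8 : 8 ^ 2 ≤ Fintype.card F ^ 2 := Nat.pow_le_pow_left h7 2
  omega

end Cfsg.Agent.OddCyclic.EmpC
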