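import Mathlib
import Cfsg.Agent.OddCyclic.EmpC.Fit
import Cfsg.Agent.OddCyclic.ClaimC.LemN

/-!
# CLAIM C, section 2: LEMMA N (helper168's text) for simple normal subgroups `K`, in the structures `Cfg`, `Bad`

* `nice` : a simple nonabelian normal subgroup not centralised by `E` satisfies `K = [K,E]`, and is generated by squares;
* `not_triv` : `K` is nontrivial on `V / D₁`, `D₁ = cr ρ K D` the largest `K`-invariant subgroup of `D`;
* `relIndex_cr` : `|D/D₁| ≤ |E/C_E(K)|`.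
-/

set_option autoImplicit false
set_option linter.unusedSectionVars false

namespace Cfsg.Agent.OddCyclic.EmpC

open Subgroup Cfsg.Agent.OddCyclic.T1Module Cfsg.Agent.OddCyclic.FFBasic Cfsg.Agent.OddCyclic.FFRed
open Cfsg.Agent.OddCyclic.T1Defs Cfsg.Agent.OddCyclic.CompBasic Cfsg.Agent.OddCyclic.FFStruct
open Cfsg.Agent.OddCyclic.PumpMain (KZero)
open Cfsg.Agent.SignalizersComponents.Components
open Cfsg.Agent.OddCyclic.ClaimC.LemN (Nice TR mem_TR cr mem_cr cr_le cr_inv le_cr triv sq_triv)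

open scoped commutatorElement

variable {H : Type*} [Group H] {V : Type*} [CommGroup V]

/-- a simple group with an element of odd order `> 1` is generated by its elements of odd order -/
theorem le_closure_odd [Finite H] {K : Subgroup H} (hs : IsSimpleGroup K) {y : H} (hy : y ∈ K) (hy1 : y ≠ 1)
    (hodd : Odd (orderOf y)) : K ≤ Subgroup.closure {k | k ∈ K ∧ Odd (orderOf k)} := by
  set S : Subgroup H := Subgroup.closure {k | k ∈ K ∧ Odd (orderOf k)} with hS
  have hn : (S.subgroupOf K).Normal := by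
    refine ⟨fun n hn g => ?_⟩
    rw [Subgroup.mem_subgroupOf] at hn ⊢
    have h1 : S ≤ S.comap (MulAut.conj (g : H)).toMonoidHom := by
      conv_lhs => rw [hS]
      rw [Subgroup.closure_le]
      rintro k ⟨hk, hko⟩
      refine Subgroup.subset_closure ⟨?_, ?_⟩
      · show (g : H) * k * (g : H)⁻¹ ∈ K
        exact mul_mem (mul_mem g.2 hk) (inv_mem g.2)
      · show Odd (orderOf ((g : H) * k * (g : H)⁻¹))
        rw [show orderOf ((g : H) * k * (g : H)⁻¹) = orderOf k from MulEquiv.orderOf_eq (MulAut.conj (g : H)) k]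
        exact hko
    exact h1 hn
  rcases hs.eq_bot_or_eq_top_of_normal _ hn with h1 | h1
  · exfalso
    apply hy1
    have h2 : (⟨y, hy⟩ : K) ∈ S.subgroupOf K := by
      rw [Subgroup.mem_subgroupOf]
      exact Subgroup.subset_closure ⟨hy, hodd⟩
    rw [h1, Subgroup.mem_bot] at h2
    exact congrArg Subtype.val h2
  · intro k hk
    have h2 : (⟨k, hk⟩ : K) ∈ S.subgroupOf K := by rw [h1]; trivial
    exact h2

/-- a simple normal subgroup not centralised by `E` -/
theorem nice [Finite H] {K E : Subgroup H} (hn : K.Normal) (hs : IsSimpleGroup K) {y : H} (hy : y ∈ K) (hy1 : y ≠ 1)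
    (hodd : Odd (orderOf y)) (hE : ¬ E ≤ centralizer (K : Set H)) : Nice K E := by
  have hO := le_closure_odd hs hy hy1 hodd
  refine ⟨?_, ?_⟩
  · -- `[E, K] ∩ K` is normal in `K`
    have h1 : ⁅E, K⁆ ≤ K := by
      rw [Subgroup.commutator_le]
      intro a _ k hk
      rw [commutatorElement_def]
      exact mul_mem (hn.conj_mem k hk a) (inv_mem hk)
    have h2 : (⁅E, K⁆.subgroupOf K).Normal := by
      refine ⟨fun n hn' g => ?_⟩
      rw [Subgroup.mem_subgroupOf] at hn' ⊢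
      -- `K` normalises `[E, K]`
      have h3 : K ≤ normalizer ((⁅E, K⁆ : Subgroup H) : Set H) := Subgroup.normalizer_commutator_ge_right E K
      exact (Subgroup.mem_normalizer_iff.1 (h3 g.2) _).1 hn'
    rcases hs.eq_bot_or_eq_top_of_normal _ h2 with h3 | h3
    · exfalso
      apply hE
      intro a ha
      rw [mem_centralizer_iff]
      intro k hk
      have h4 : ⁅a, k⁆ ∈ ⁅E, K⁆ := Subgroup.commutator_mem_commutator ha hk
      have h5 : (⟨⁅a, k⁆, h1 h4⟩ : K) ∈ ⁅E, K⁆.subgroupOf K := h4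
      rw [h3, Subgroup.mem_bot] at h5
      have h6 : ⁅a, k⁆ = 1 := congrArg Subtype.val h5
      exact (commutatorElement_eq_one_iff_mul_comm.1 h6).symm
    · intro k hk
      have h4 : (⟨k, hk⟩ : K) ∈ ⁅E, K⁆.subgroupOf K := by rw [h3]; trivial
      exact h4
  · refine hO.trans ?_
    rw [Subgroup.closure_le]
    rintro k ⟨hk, m, hm⟩
    have h1 : k = k ^ (m + 1) * k ^ (m + 1) := by
      rw [← pow_add]
      have : m + 1 + (m + 1) = orderOf k + 1 := by omega
      rw [this, pow_succ, pow_orderOf_eq_one, one_mul]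
    exact Subgroup.subset_closure ⟨k ^ (m + 1), pow_mem hk _, h1⟩

/-- the stabiliser of a subgroup -/
def stS (ρ : H →* MulAut V) (W : Subgroup V) : Subgroup H where
  carrier := {g | ∀ u, ρ g u ∈ W ↔ u ∈ W}
  mul_mem' := fun {a b} ha hb u => by rw [map_mul, MulAut.mul_apply, ha, hb]
  one_mem' := fun u => by rw [map_one]; rfl
  inv_mem' := fun {a} ha u => by
    rw [← ha (ρ a⁻¹ u), ← MulAut.mul_apply, ← map_mul, mul_inv_cancel, map_one]; rfl

theorem mem_stS {ρ : H →* MulAut V} {W : Subgroup V} {g : H} : g ∈ stS ρ W ↔ ∀ u, ρ g u ∈ W ↔ u ∈ W := Iff.rfl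

theorem stS_inv (ρ : H →* MulAut V) (W : Subgroup V) : Inv (ρ.comp (stS ρ W).subtype) W :=
  fun g w hw => (g.2 w).2 hw

section lemN

variable [Finite H] [Finite V] {ρ : H →* MulAut V} {T : Sylow 2 H} {E : Subgroup H} {R D : Subgroup V} {c d : ℕ}
  (h : Cfg ρ E R D c d) (hB : Bad ρ T) (hV : ∀ v : V, v * v = 1) (hρ : Function.Injective ρ)

include h

theorem D_inv : ClaimC.LemN.Inv ρ E D := by
  intro a ha u hu
  have h1 := mul_mem (h.le (h.dcomm u hu a ha)) hu
  rwa [inv_mul_cancel_right] at h1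

include hB hV hρ

/-- **LEMMA N** : `[V, K]` is not contained in `D` -/
theorem not_triv {K : Subgroup H} [K.Normal] (hN : Nice K E) (hK1 : K ≠ ⊥) : ¬ CM ρ K ≤ D := by
  intro hcm
  have hDN : ClaimC.LemN.Inv ρ K D := ClaimC.LemN.inv_of_cm fun n hn u _ => hcm (mem_CM hn u)
  have hCS : ¬ CS ρ K ≤ D := by
    intro h1
    apply h.ne_top
    rw [eq_top_iff, ← hB.sup_eq_top hV K]
    exact sup_le hcm h1
  have hCi : ∀ g, ∀ u ∈ CS ρ K, ρ g u ∈ CS ρ K := CS_inv ρ K
  have h1 := triv hN (A := CS ρ K) (B := D) (fun n _ u hu => hCi n u hu) hDN (fun n _ u hu => hCi n u hu)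
    (D_inv h) (fun b hb w hw => h.comm_le (fun a _ u hu => hCi a u hu) hCS hw hb)
  have hbot : ClaimC.LemN.Inv ρ K (⊥ : Subgroup V) := fun n _ u hu => by
    rw [Subgroup.mem_bot] at hu ⊢
    rw [hu, map_one]
  have htop : ClaimC.LemN.Inv ρ K (⊤ : Subgroup V) := fun _ _ _ _ => trivial
  have h2 := sq_triv hV hN hbot hDN h1 (fun n hn b hb => by
    rw [Subgroup.mem_bot, cm_apply, hb n hn, mul_inv_cancel])
  have h3 := sq_triv hV hN hbot htop (B := D) (fun n hn c _ => hcm (mem_CM hn c)) h2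
  apply hK1
  rw [Subgroup.eq_bot_iff_forall]
  intro n hn
  apply hρ
  rw [map_one]
  ext v
  have h4 := Subgroup.mem_bot.1 (h3 n hn v trivial)
  rw [cm_apply, mul_inv_eq_one] at h4
  exact h4

omit hB hρ in
/-- `|D/D₁| ≤ |E/C_E(K)|` -/
theorem relIndex_cr {K : Subgroup H} [K.Normal] (hE : E ⊓ centralizer (K : Set H) ≠ ⊥) :
    (cr ρ K D).relIndex D ≤ (centralizer (K : Set H)).relIndex E := by
  obtain ⟨⟨e, he⟩, he1⟩ := Subgroup.ne_bot_iff_exists_ne_one.1 hE
  have he1' : e ≠ 1 := fun h => he1 (Subtype.ext h)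
  have hcr : ∀ a ∈ E, a ∈ centralizer (K : Set H) → ∀ v, ρ a v * v⁻¹ ∈ cr ρ K D := by
    intro a ha hac v n hn
    have h1 : ρ n (ρ a v * v⁻¹) = ρ a (ρ n v) * (ρ n v)⁻¹ := by
      rw [map_mul, map_inv, ← MulAut.mul_apply, ← MulAut.mul_apply, ← map_mul, ← map_mul,
        (mem_centralizer_iff.1 hac) n hn]
    rw [h1]
    exact h.comm_mem _ ha
  have hR : R ≤ cr ρ K D := by
    have h1 : R ≤ fx ρ e := fun r hr => h.fix_apply hr he.1
    refine h1.trans (le_cr ?_ (h.fx_le he.1 he1'))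
    intro n hn u hu
    rw [mem_fx] at hu ⊢
    rw [← MulAut.mul_apply, ← map_mul, ← (mem_centralizer_iff.1 he.2) n hn, map_mul, MulAut.mul_apply, hu]
  obtain ⟨v, hv⟩ := h.exists_notMem
  let C := centralizer (K : Set H)
  have key : ∀ a ∈ E, ∀ b ∈ E, a⁻¹ * b ∈ C → (ρ a v * v⁻¹)⁻¹ * (ρ b v * v⁻¹) ∈ cr ρ K D := by
    intro a ha b hb hab
    have h2 := hR (h.comm_mul v ha (mul_mem (inv_mem ha) hb))
    rw [mul_inv_cancel_left] at h2
    have h3 := hcr (a⁻¹ * b) (mul_mem (inv_mem ha) hb) hab v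
    have h4 := mul_mem h2 h3
    rw [mul_inv_rev] at h4
    have h5 : ρ b v * v⁻¹ * ((ρ (a⁻¹ * b) v * v⁻¹)⁻¹ * (ρ a v * v⁻¹)⁻¹) * (ρ (a⁻¹ * b) v * v⁻¹) =
        (ρ a v * v⁻¹)⁻¹ * (ρ b v * v⁻¹) := by
      have aux : ∀ x y z : V, x * (y⁻¹ * z) * y = z * x := by
        intro x y z
        calc x * (y⁻¹ * z) * y = x * z * (y⁻¹ * y) := by
              rw [mul_comm y⁻¹ z, ← mul_assoc, mul_assoc (x * z)]
          _ = z * x := by rw [inv_mul_cancel, mul_one, mul_comm]
      exact aux _ _ _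
    rwa [h5] at h4
  let f : E ⧸ C.subgroupOf E → D ⧸ (cr ρ K D).subgroupOf D := Quotient.lift
    (fun a : E => (QuotientGroup.mk ⟨ρ (a : H) v * v⁻¹, h.comm v hv a a.2⟩ : D ⧸ (cr ρ K D).subgroupOf D)) (by
    intro a b hab
    have h1 : a⁻¹ * b ∈ C.subgroupOf E := QuotientGroup.leftRel_apply.1 hab
    apply QuotientGroup.eq.2
    exact key a a.2 b b.2 h1)
  have hf : Function.Surjective f := by
    intro x
    obtain ⟨u, rfl⟩ := QuotientGroup.mk_surjective x
    obtain ⟨a, ha, r, hr, hu⟩ := h.surj v hv u u.2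
    refine ⟨QuotientGroup.mk ⟨a, ha⟩, ?_⟩
    apply QuotientGroup.eq.2
    rw [Subgroup.mem_subgroupOf]
    change (ρ a v * v⁻¹)⁻¹ * (u : V) ∈ cr ρ K D
    rw [hu, inv_mul_cancel_left]
    exact hR hr
  exact Nat.card_le_card_of_surjective f hf

end lemN

end Cfsg.Agent.OddCyclic.EmpC
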