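import Mathlib
import Cfsg.Agent.OddCyclic.EmpC.LemN

/-!
# CLAIM C, section 4: `E` centralises the Suzuki components

`RSz J q` : elementary abelian 2-subgroups of `J` have order at most `q`, and every involution inverts an element of
prime order `r` with `q^4 ≤ 2^d` whenever `r ∣ 2^d - 1`.
-/

set_option autoImplicit false
set_option linter.unusedSectionVars false

namespace Cfsg.Agent.OddCyclic.EmpC

open Subgroup Cfsg.Agent.OddCyclic.T1Module Cfsg.Agent.OddCyclic.FFBasic Cfsg.Agent.OddCyclic.FFRed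
open Cfsg.Agent.OddCyclic.T1Defs Cfsg.Agent.OddCyclic.CompBasic Cfsg.Agent.OddCyclic.FFStruct
open Cfsg.Agent.OddCyclic.ClaimC.LemN (Nice TR mem_TR cr mem_cr cr_le cr_inv le_cr triv sq_triv)

/-- (R2) -/
structure RSz (J : Type*) [Group J] (q : ℕ) : Prop where
  two : 2 ≤ q
  el : ∀ A : Subgroup J, (∀ a ∈ A, a * a = 1) → Nat.card A ≤ q
  real : ∀ k : J, k * k = 1 → k ≠ 1 → ∃ (y : J) (r : ℕ), r.Prime ∧ r ≠ 2 ∧ orderOf y = r ∧ k * y * k⁻¹ = y⁻¹ ∧
    ∀ d : ℕ, 0 < d → r ∣ 2 ^ d - 1 → q ^ 4 ≤ 2 ^ d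

variable {H : Type*} [Group H] {V : Type*} [CommGroup V]

/-- the elements of `K` inducing the same automorphisms of `K` as the elements of `E` -/
def prj (K E : Subgroup H) : Subgroup K where
  carrier := {j | ∃ a ∈ E, ∀ k ∈ K, a * k * a⁻¹ = (j : H) * k * (j : H)⁻¹}
  mul_mem' := by
    rintro j j' ⟨a, ha, h⟩ ⟨a', ha', h'⟩
    refine ⟨a * a', mul_mem ha ha', fun k hk => ?_⟩
    rw [Subgroup.coe_mul]
    have h1 : (j' : H) * k * (j' : H)⁻¹ ∈ K := mul_mem (mul_mem j'.2 hk) (inv_mem j'.2)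
    calc a * a' * k * (a * a')⁻¹ = a * (a' * k * a'⁻¹) * a⁻¹ := by group
      _ = (j : H) * ((j' : H) * k * (j' : H)⁻¹) * (j : H)⁻¹ := by rw [h' k hk, h _ h1]
      _ = _ := by group
  one_mem' := ⟨1, one_mem E, fun k _ => by simp⟩
  inv_mem' := by
    rintro j ⟨a, ha, h⟩
    refine ⟨a⁻¹, inv_mem ha, fun k hk => ?_⟩
    rw [Subgroup.coe_inv]
    have h1 : (j : H)⁻¹ * k * (j : H) ∈ K := mul_mem (mul_mem (inv_mem j.2) hk) j.2
    have h2 := h _ h1
    have h3 : (j : H) * ((j : H)⁻¹ * k * (j : H)) * (j : H)⁻¹ = k := by group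
    rw [h3] at h2
    calc a⁻¹ * k * a⁻¹⁻¹ = a⁻¹ * (a * ((j : H)⁻¹ * k * (j : H)) * a⁻¹) * a := by rw [h2]; group
      _ = _ := by group

theorem relIndex_cent_le [Finite H] {K E : Subgroup H}
    (hin : ∀ a ∈ E, ∃ j ∈ K, ∀ k ∈ K, a * k * a⁻¹ = j * k * j⁻¹) :
    (centralizer (K : Set H)).relIndex E ≤ Nat.card (prj K E) := by
  classical
  let C := centralizer (K : Set H)
  have hj : ∀ a : E, ∃ j : K, ∀ k ∈ K, (a : H) * k * (a : H)⁻¹ = (j : H) * k * (j : H)⁻¹ := by
    intro a
    obtain ⟨j, hj, hj'⟩ := hin a a.2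
    exact ⟨⟨j, hj⟩, hj'⟩
  choose j hj using hj
  let f : E ⧸ C.subgroupOf E → prj K E := fun q => ⟨j q.out, (q.out : E), (q.out : E).2, hj q.out⟩
  have hf : Function.Injective f := by
    intro q q' h
    have h1 : j q.out = j q'.out := congrArg Subtype.val h
    have h2 : ((q.out : E) : H)⁻¹ * ((q'.out : E) : H) ∈ C := by
      rw [mem_centralizer_iff]
      intro k hk
      have h3 := hj q.out k hk
      have h4 := hj q'.out k hk
      rw [← h1, ← h3] at h4
      have h5 : ((q'.out : E) : H) * k = ((q.out : E) : H) * k * ((q.out : E) : H)⁻¹ * ((q'.out : E) : H) := by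
        rw [← h4]; group
      rw [mul_assoc, h5]; group
    have h3 : (q.out : E)⁻¹ * q'.out ∈ C.subgroupOf E := h2
    rw [← q.out_eq', ← q'.out_eq']
    exact QuotientGroup.eq.2 h3
  exact Nat.card_le_card_of_injective f hf

variable [Finite H] [Finite V] {ρ : H →* MulAut V} {T : Sylow 2 H} {E : Subgroup H} {R D : Subgroup V} {c d : ℕ}

/-- **section 4** -/
theorem no_suzuki (h : Cfg ρ E R D c d) (hB : Bad ρ T) (hV : ∀ v : V, v * v = 1) (hρ : Function.Injective ρ)
    {K : Subgroup H} [hn : K.Normal] (hs : IsSimpleGroup K) (hZ : ∀ z ∈ K, z ∈ centralizer (K : Set H) → z = 1)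
    (hin : ∀ a ∈ E, ∃ j ∈ K, ∀ k ∈ K, a * k * a⁻¹ = j * k * j⁻¹) {q : ℕ} (hq : RSz K q) :
    E ≤ centralizer (K : Set H) := by
  by_contra hE
  obtain ⟨e, he, heC⟩ := Set.not_subset.1 hE
  obtain ⟨j, hj, hjk⟩ := hin e he
  have hj2 : j * j = 1 := by
    apply hZ _ (mul_mem hj hj)
    rw [mem_centralizer_iff]
    intro k hk
    have h1 : j * k * j⁻¹ ∈ K := mul_mem (mul_mem hj hk) (inv_mem hj)
    have h2 : e * (e * k * e⁻¹) * e⁻¹ = k := by
      have : e * (e * k * e⁻¹) * e⁻¹ = (e * e) * k * (e * e)⁻¹ := by group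
      rw [this, h.sq e he]; simp
    rw [hjk k hk, hjk _ h1] at h2
    have h3 : j * (j * k * j⁻¹) * j⁻¹ = (j * j) * k * (j * j)⁻¹ := by group
    rw [h3] at h2
    nth_rewrite 1 [← h2]
    group
  have hj1 : j ≠ 1 := by
    rintro rfl
    apply heC
    show e ∈ centralizer (K : Set H)
    rw [mem_centralizer_iff]
    intro k hk
    have h1 := hjk k hk
    rw [one_mul, inv_one, mul_one] at h1
    rw [mul_inv_eq_iff_eq_mul] at h1
    exact h1.symm
  obtain ⟨y, r, hr, hr2, hyo, hky, hd⟩ := hq.real ⟨j, hj⟩ (Subtype.ext hj2) (fun h => hj1 (congrArg Subtype.val h))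
  have hyo' : orderOf (y : H) = r := by rw [Subgroup.orderOf_coe]; exact hyo
  have hodd : Odd (orderOf (y : H)) := by rw [hyo']; exact hr.odd_of_ne_two hr2
  have hy1 : (y : H) ≠ 1 := by
    intro h1
    rw [h1, orderOf_one] at hyo'
    exact hr.one_lt.ne hyo'
  have hey : e * y * e⁻¹ = (y : H)⁻¹ := by
    rw [hjk y y.2]
    exact congrArg Subtype.val hky
  have hnt : ∀ z : H, z ≠ 1 → ∃ v, ρ z v ≠ v := by
    intro z hz
    by_contra hcon
    push Not at hcon
    exact hz (hρ (by rw [map_one]; ext v; exact hcon v))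
  have hel : Nat.card (prj K E) ≤ q := by
    apply hq.el
    rintro x ⟨a, ha, hax⟩
    apply Subtype.ext
    apply hZ _ (mul_mem x.2 x.2)
    rw [mem_centralizer_iff]
    intro k hk
    have h1 : (x : H) * k * (x : H)⁻¹ ∈ K := mul_mem (mul_mem x.2 hk) (inv_mem x.2)
    have h2 : a * (a * k * a⁻¹) * a⁻¹ = k := by
      have : a * (a * k * a⁻¹) * a⁻¹ = (a * a) * k * (a * a)⁻¹ := by group
      rw [this, h.sq a ha]; simp
    rw [hax k hk, hax _ h1] at h2
    have h3 : (x : H) * ((x : H) * k * (x : H)⁻¹) * (x : H)⁻¹ = ((x : H) * x) * k * ((x : H) * x)⁻¹ := by group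
    rw [h3] at h2
    show k * ((x : H) * x) = ((x : H) * x) * k
    nth_rewrite 1 [← h2]
    group
  have hrel := (relIndex_cent_le hin).trans hel
  have hq4 : ¬ q ^ 4 ≤ q ^ 2 := by
    intro h1
    have := (Nat.pow_le_pow_iff_right (by have := hq.two; omega : 1 < q)).1 h1
    omega
  by_cases hbot : E ⊓ centralizer (K : Set H) = ⊥
  · -- `E` is faithful on `K`
    have h1 : Nat.card E ≤ q := by
      rw [← Subgroup.inf_relIndex_left] at hrel
      rwa [hbot, Subgroup.relIndex_bot_left] at hrel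
    have he1 : e ≠ 1 := fun h => heC (h ▸ one_mem _)
    have h2 := (h.width hV he he1).trans h1
    have h3 := half' ρ hodd hey
    obtain ⟨k, hk, h4, h5⟩ := prim (ρ := ρ) hV hr hr2 hyo' (hnt _ hy1)
    have h6 := hd k hk h5
    rw [← h4] at h6
    exact hq4 (h6.trans (h3.trans (Nat.pow_le_pow_left h2 2)))
  · -- the action on `V / D₁`
    set W := cr ρ K D with hW
    have hKM : K ≤ stS ρ W := fun k hk u => (cr_inv (N := K) (D := D)).iff hk u
    have hEM : ∀ a ∈ E, ∀ u ∈ W, ρ a u ∈ W := by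
      intro a ha u hu n hn'
      have h1 : n * a = a * (a⁻¹ * n * a) := by group
      rw [← MulAut.mul_apply, ← map_mul, h1, map_mul, MulAut.mul_apply]
      apply D_inv h a ha
      apply hu
      have := hn.conj_mem n hn' a⁻¹
      rwa [inv_inv] at this
    have hEM' : E ≤ stS ρ W := by
      intro a ha u
      refine ⟨fun h1 => ?_, hEM a ha u⟩
      have h2 := hEM a⁻¹ (inv_mem ha) _ h1
      rwa [← MulAut.mul_apply, ← map_mul, inv_mul_cancel, map_one] at h2
    let σ := quo (ρ.comp (stS ρ W).subtype) W (stS_inv ρ W)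
    let y' : stS ρ W := ⟨y, hKM y.2⟩
    let e' : stS ρ W := ⟨e, hEM' he⟩
    have hyo'' : orderOf y' = r := by rw [← Subgroup.orderOf_coe]; exact hyo'
    have hey' : e' * y' * e'⁻¹ = y'⁻¹ := Subtype.ext hey
    have hV' : ∀ v : V ⧸ W, v * v = 1 := quo_sq hV
    have hne : ∃ v, σ y' v ≠ v := by
      by_contra hcon
      push Not at hcon
      -- the kernel
      let N : Subgroup K :=
        { carrier := {k | ∀ v : V, ρ (k : H) v * v⁻¹ ∈ W}
          mul_mem' := fun {k l} hk hl v => by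
            show ρ ((k : H) * l) v * v⁻¹ ∈ W
            have h1 : ρ ((k : H) * l) v * v⁻¹ = (ρ (k : H) (ρ (l : H) v) * (ρ (l : H) v)⁻¹) * (ρ (l : H) v * v⁻¹) := by
              rw [map_mul, MulAut.mul_apply]; group
            rw [h1]
            exact mul_mem (hk _) (hl v)
          one_mem' := fun v => by
            show ρ 1 v * v⁻¹ ∈ W
            rw [map_one, MulAut.one_apply, mul_inv_cancel]
            exact one_mem _
          inv_mem' := fun {k} hk v => by
            show ρ ((k : H)⁻¹) v * v⁻¹ ∈ W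
            have h1 := inv_mem (hk (ρ ((k : H)⁻¹) v))
            rw [← MulAut.mul_apply, ← map_mul, mul_inv_cancel, map_one, MulAut.one_apply, mul_inv, inv_inv,
              mul_comm] at h1
            exact h1 }
      have hNn : N.Normal := by
        refine ⟨fun n hn' g v => ?_⟩
        show ρ ((g : H) * n * (g : H)⁻¹) v * v⁻¹ ∈ W
        have h1 : ρ ((g : H) * n * (g : H)⁻¹) v * v⁻¹ =
            ρ (g : H) (ρ (n : H) (ρ (g : H)⁻¹ v) * (ρ (g : H)⁻¹ v)⁻¹) := by
          have e1 : ρ (g : H) (ρ (g : H)⁻¹ v) = v := by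
            rw [← MulAut.mul_apply, ← map_mul, mul_inv_cancel, map_one]; rfl
          rw [map_mul (ρ (g : H)), map_inv (ρ (g : H)), e1, map_mul ρ, map_mul ρ]
          rfl
        rw [h1]
        exact (hKM g.2 _).2 (hn' _)
      have hyN : y ∈ N := by
        intro v
        have h1 := hcon (v : V ⧸ W)
        have h2 : ((ρ (y : H) v : V) : V ⧸ W) = v := h1
        have h3 := QuotientGroup.eq.1 h2.symm
        rwa [mul_comm] at h3
      rcases hs.eq_bot_or_eq_top_of_normal N hNn with h1 | h1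
      · rw [h1, Subgroup.mem_bot] at hyN
        exact hy1 (congrArg Subtype.val hyN)
      · have hK1 : K ≠ ⊥ := by
          rintro rfl
          exact hy1 (Subgroup.mem_bot.1 y.2)
        refine not_triv h hB hV hρ (nice hn hs y.2 hy1 hodd hE) hK1 ?_
        apply CM_le
        intro k hk v
        have h2 : (⟨k, hk⟩ : K) ∈ N := by rw [h1]; trivial
        exact cr_le (h2 v)
    obtain ⟨k, hk, h4, h5⟩ := prim (ρ := σ) hV' hr hr2 hyo'' hne
    have h6 := hd k hk h5
    rw [← h4] at h6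
    have h7 := half' σ (a := e') (y := y') (by rw [hyo'']; exact hr.odd_of_ne_two hr2) hey'
    have h8 : (fx σ e').index ≤ W.relIndex D := by
      rw [← card_range_cm]
      have h9 : (cm σ e').range ≤ D.map (QuotientGroup.mk' W) := by
        rintro _ ⟨v, rfl⟩
        obtain ⟨v, rfl⟩ := QuotientGroup.mk_surjective v
        exact ⟨ρ e v * v⁻¹, h.comm_mem v he, rfl⟩
      refine (Subgroup.card_le_of_le h9).trans ?_
      rw [← Subgroup.relIndex_ker, QuotientGroup.ker_mk']
    have h9 := (h8.trans (relIndex_cr h hV hbot)).trans hrel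
    exact hq4 (h6.trans (h7.trans (Nat.pow_le_pow_left h9 2)))

end Cfsg.Agent.OddCyclic.EmpC
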