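import Mathlib
import Cfsg.Agent.OddCyclic.EmpC.Sz
import Cfsg.Agent.OddCyclic.FFLoc
import Cfsg.Agent.OddCyclic.ClaimC.WPsl
import Cfsg.Agent.OddCyclic.ClaimC.WJ

/-!
# CLAIM C, section 5: `E` is faithful on one component `K`, and `K = SL₂(q)` or `L₃(2)`
-/

set_option autoImplicit false
set_option linter.unusedSectionVars false

namespace Cfsg.Agent.OddCyclic.EmpC

open Subgroup Cfsg.Agent.OddCyclic.T1Module Cfsg.Agent.OddCyclic.FFBasic Cfsg.Agent.OddCyclic.FFRed
open Cfsg.Agent.OddCyclic.T1Defs Cfsg.Agent.OddCyclic.CompBasic Cfsg.Agent.OddCyclic.FFStruct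
open Cfsg.Agent.OddCyclic.PumpMain (KZero)
open Cfsg.Agent.SignalizersComponents.Components
open Cfsg.Agent.OddCyclic.ClaimC.WDefs

variable {H : Type*} [Group H] {V : Type*} [CommGroup V] [Finite H] [Finite V] {ρ : H →* MulAut V} {T : Sylow 2 H}
  {E : Subgroup H} {R D : Subgroup V} {c d : ℕ}

/-- `E` is faithful on a component -/
theorem reduction (h : Cfg ρ E R D c d) (hB : Bad ρ T) (hN : NFF ρ) (hV : ∀ v : V, v * v = 1)
    (hρ : Function.Injective ρ) (hc : OddCyc H)
    (hk : ∀ J : Subgroup H, IsSimpleGroup J → (∃ x y : J, x * y ≠ y * x) → KZero J) (h2 : pCore 2 H = ⊥)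
    (hR2 : ∀ K : Subgroup H, Cfsg.Lie.IsoSuzuki K → ∃ q, RSz K q) :
    ∃ L : Subgroup H, L.Normal ∧ IsSimpleGroup L ∧ KZero L ∧ ¬ Cfsg.Lie.IsoSuzuki L ∧ Fw ρ L E := by
  classical
  have hkz : ∀ K : Subgroup H, IsComponent K → KZero K := by
    intro K hK
    refine hk K (simple_component hc h2 hK) ?_
    by_contra hcon
    push Not at hcon
    exact quasisimple_not_isMulCommutative hK.2 ⟨⟨hcon⟩⟩
  have hne : ∀ y : H, y ≠ 1 → ∃ v, ρ y v ≠ v := by
    intro y hy
    by_contra hcon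
    push Not at hcon
    apply hy
    apply hρ
    rw [map_one]
    ext v
    exact hcon v
  have hsz : ∀ K : Subgroup H, IsComponent K → Cfsg.Lie.IsoSuzuki K → E ≤ centralizer (K : Set H) := by
    intro K hK hs
    have hn := component_normal hc hK
    obtain ⟨q, hq⟩ := hR2 K hs
    refine no_suzuki h hB hV hρ (simple_component hc h2 hK) (inter_centralizer hc h2 hK) ?_ hq
    intro a ha
    obtain ⟨F, iF, iF', m, hm, hF, ⟨R⟩⟩ := Cfsg.Agent.ThreePrime.SzRel.exists_rel hs
    obtain ⟨j, hj⟩ := R.inner hm hF (MulAut.conjNormal a) ⟨1, by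
      rw [pow_one, pow_two, ← map_mul, h.sq a ha, map_one]⟩
    refine ⟨j, j.2, fun k hk => ?_⟩
    have h1 := congrArg (fun α : MulAut K => ((α ⟨k, hk⟩ : K) : H)) hj
    simpa [MulAut.conjNormal_apply] using h1
  have hF := fitting h hV hN hρ hc hk h2
  -- a component which is not centralised
  obtain ⟨⟨a₀, ha₀⟩, ha₀1'⟩ := Subgroup.ne_bot_iff_exists_ne_one.1 h.ne_bot
  have ha₀1 : a₀ ≠ 1 := fun h => ha₀1' (Subtype.ext h)
  obtain ⟨L, hL, haL⟩ : ∃ L : Subgroup H, IsComponent L ∧ a₀ ∉ centralizer (L : Set H) := by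
    by_contra hcon
    push Not at hcon
    exact ha₀1 (eq_one_of_centralizes h2 (h.sq a₀ ha₀) (hF a₀ ha₀) hcon)
  have hLs : ¬ Cfsg.Lie.IsoSuzuki L := fun h => haL (hsz L hL h ha₀)
  have h3L := three_dvd_of_kZero (hkz L hL) hLs
  -- the other components are centralised
  have hoth : ∀ K : Subgroup H, IsComponent K → K ≠ L → E ≤ centralizer (K : Set H) := by
    intro K hK hKL
    by_cases hs : Cfsg.Lie.IsoSuzuki K
    · exact hsz K hK hs
    · exact absurd (component_eq hc h2 hK hL Nat.prime_three (by norm_num) (three_dvd_of_kZero (hkz K hK) hs) h3L)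
        hKL
  have hLo : ∀ K : Subgroup H, IsComponent K → K ≠ L → L ≤ centralizer (K : Set H) := by
    intro K hK hKL
    have h := component_commutator_eq_bot_of_ne hL hK hKL.symm
    rwa [Subgroup.commutator_eq_bot_iff_le_centralizer] at h
  have hLF : ∀ g ∈ L, ∀ x ∈ fittingSubgroup H, g * x = x * g := by
    intro g hg x hx
    have h := layer_le_centralizer_fitting (component_le_layer hL hg)
    exact ((mem_centralizer_iff.mp h) x hx).symm
  refine ⟨L, component_normal hc hL, simple_component hc h2 hL, hkz L hL, hLs, h.sq, h.ne_bot, ?_, ?_, ?_, ?_⟩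
  · intro a ha
    by_cases ha1 : a = 1
    · rw [ha1, fx_one, Subgroup.index_top]
      exact Nat.card_pos
    · exact h.width hV ha ha1
  · intro a ha hal
    refine eq_one_of_centralizes h2 (h.sq a ha) (hF a ha) ?_
    intro K hK
    by_cases hKL : K = L
    · subst hKL
      rw [mem_centralizer_iff]
      intro k hk'
      exact (hal k hk').symm
    · exact hoth K hK hKL ha
  · intro a ha g hg hag
    have hcL : g⁻¹ * a ∈ centralizer (L : Set H) := by
      rw [mem_centralizer_iff]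
      intro k hk'
      have h1 := hag k hk'
      have h3 : a * k = g * k * g⁻¹ * a := by rw [← h1]; group
      calc k * (g⁻¹ * a) = g⁻¹ * (g * k * g⁻¹ * a) := by group
        _ = g⁻¹ * (a * k) := by rw [h3]
        _ = _ := by group
    have h1 : g⁻¹ * a = 1 := by
      refine eq_one_of_centralizes h2 ?_ ?_ ?_
      · refine (FFInner.sq_eq (inter_centralizer hc h2 hL) h.sq hg hcL ?_).2
        rw [mul_inv_cancel_left]; exact ha
      · intro x hx
        rw [mul_assoc, hF a ha x hx, ← mul_assoc, hLF g⁻¹ (inv_mem hg) x hx, mul_assoc]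
      · intro K hK
        by_cases hKL : K = L
        · subst hKL; exact hcL
        · exact mul_mem (hLo K hK hKL (inv_mem hg)) (hoth K hK hKL ha)
    rw [inv_mul_eq_one] at h1
    rwa [← h1]
  · intro y _ hy1
    exact hne y hy1

/-- the two cases -/
theorem cases_ (h : Cfg ρ E R D c d) (hB : Bad ρ T) (hN : NFF ρ) (hV : ∀ v : V, v * v = 1)
    (hρ : Function.Injective ρ) (hc : OddCyc H)
    (hk : ∀ J : Subgroup H, IsSimpleGroup J → (∃ x y : J, x * y ≠ y * x) → KZero J) (h2 : pCore 2 H = ⊥)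
    (hR2 : ∀ K : Subgroup H, Cfsg.Lie.IsoSuzuki K → ∃ q, RSz K q) :
    (∃ L : Subgroup H, L.Normal ∧ IsSimpleGroup L ∧ Fw ρ L E ∧ ∃ (F : Type) (_ : Field F) (_ : Fintype F) (_ : CharP F 2),
      4 ≤ Fintype.card F ∧ Nonempty (Matrix.SpecialLinearGroup (Fin 2) F ≃* L)) ∨
    (∃ L : Subgroup H, L.Normal ∧ IsSimpleGroup L ∧ Fw ρ L E ∧ E ≤ L ∧ Nat.card E = 4 ∧
      ∃ (F : Type) (_ : Field F) (_ : Fintype F), Nat.card F = 7 ∧ Nonempty (Cfsg.Agent.GH.L2Aut.Rep F L)) := by
  obtain ⟨L, hLn, hs, hK, hns, hf⟩ := reduction h hB hN hV hρ hc hk h2 hR2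
  rcases hK with ⟨F, _, _, hp, h5, ⟨e⟩⟩ | ⟨F, _, _, f, hf', hF, ⟨e⟩⟩ | hK | ⟨hJ, k, hk'⟩
  · have hodd : Odd (Fintype.card F) := hp.odd_of_ne_two (by omega)
    by_cases h5' : Fintype.card F = 5
    · obtain ⟨K, i1, i2, i3, hK4, ⟨e'⟩⟩ := T1Socle.exists_four h5'
      exact Or.inl ⟨L, hLn, hs, hf, K, i1, i2, i3, by rw [hK4], ⟨(e.trans e').symm⟩⟩
    · have h7 : 7 ≤ Fintype.card F := by
        have h6 : Fintype.card F ≠ 6 := by
          intro h6
          rw [h6] at hp
          revert hp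
          norm_num
        omega
      have R := Cfsg.Agent.GH.L2Aut.Rep.ofEquiv (Cfsg.Agent.GH.L2Aut.two_ne_zero_of_odd hodd) e
      have hp' : (Nat.card F).Prime := by rw [Nat.card_eq_fintype_card]; exact hp
      have h7' : 7 ≤ Nat.card F := by rw [Nat.card_eq_fintype_card]; exact h7
      right
      refine ⟨L, hLn, hs, hf, ClaimC.WPsl.le_L R hf hV hc hp' h7', ?_, F, inferInstance, inferInstance,
        ClaimC.WPsl.seven R hf hV hc hp' h7', ⟨R⟩⟩
      have h8 := ClaimC.WPsl.card_le_four R hf hp'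
      have h9 := h.card
      have h10 : 2 ^ 2 ≤ 2 ^ c := Nat.pow_le_pow_right (by norm_num) h.two
      omega
  · have h4 : 4 ≤ Fintype.card F := by
      rw [hF]
      calc 4 = 2 ^ 2 := by norm_num
        _ ≤ 2 ^ f := Nat.pow_le_pow_right (by norm_num) hf'
    have hch : CharP F 2 := by
      have hch := ringChar.charP F
      have h1 : ringChar F ∣ 2 ^ f := by
        rw [← hF, ← CharP.cast_eq_zero_iff F (ringChar F), Nat.cast_card_eq_zero]
      have h2 : (ringChar F).Prime := CharP.char_is_prime F (ringChar F)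
      have h3 : ringChar F = 2 := (Nat.prime_dvd_prime_iff_eq h2 Nat.prime_two).1 (h2.dvd_of_dvd_pow h1)
      rwa [h3] at hch
    obtain ⟨g⟩ := WeakTI.PslTwo.nonempty_equiv (F := F)
    exact Or.inl ⟨L, hLn, hs, hf, F, inferInstance, inferInstance, hch, h4, ⟨g.trans e.symm⟩⟩
  · exact absurd hK hns
  · exact (ClaimC.WJ.jmain hf hV hJ hk').elim

end Cfsg.Agent.OddCyclic.EmpC
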