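import Mathlib
import Cfsg.Agent.OddCyclic.EmpC.Comp
import Cfsg.Agent.OddCyclic.FFThree

/-!
# CLAIM C, (β'): `K = L₃(2)`
-/

set_option autoImplicit false
set_option linter.unusedSectionVars false

namespace Cfsg.Agent.OddCyclic.EmpC

open Subgroup Cfsg.Agent.OddCyclic.T1Module Cfsg.Agent.OddCyclic.FFBasic Cfsg.Agent.OddCyclic.FFRed
open Cfsg.Agent.OddCyclic.T1Defs Cfsg.Agent.OddCyclic.CompBasic Cfsg.Agent.OddCyclic.FFStruct
open Cfsg.Agent.OddCyclic.FFSl2 (CS_le_fx)

/-! ### `E` of order 4 and width 4 -/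

section four

variable {H : Type*} [Group H] {V : Type*} [CommGroup V] [Finite H] [Finite V] {ρ : H →* MulAut V} {T : Sylow 2 H}
  {E : Subgroup H} {R D : Subgroup V} {c d : ℕ}

theorem index_eq_two (h : Cfg ρ E R D c d) (hN : NFF ρ) (hV : ∀ v : V, v * v = 1) (h4 : Nat.card E = 4) :
    D.index = 2 := by
  by_contra hne
  have h1 : 4 ≤ D.index := by
    rw [h.index] at hne ⊢
    have h2 : 2 ≤ d := by
      by_contra hcon
      have := h.pos
      have h3 : d = 1 := by omega
      exact hne (by rw [h3, pow_one])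
    calc 4 = 2 ^ 2 := by norm_num
      _ ≤ 2 ^ d := Nat.pow_le_pow_right (by norm_num) h2
  have hD := h.card_D hV
  rw [h4] at hD
  obtain ⟨w, hw, a, ha, hne'⟩ := h.nonquad hV hN
  apply hne'
  have ha1 : a ≠ 1 := by
    rintro rfl
    apply hne'
    rw [map_one]; rfl
  have h2 := h.card_fx_ge hV ha ha1
  have h3 : Nat.card D ≤ Nat.card (fx ρ a) := by
    rw [hD]
    calc 4 * Nat.card R ≤ D.index * Nat.card R := Nat.mul_le_mul_right _ h1
      _ = Nat.card R * D.index := mul_comm _ _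
      _ ≤ _ := h2
  have h5 : fx ρ a = D := Subgroup.eq_of_le_of_card_ge (h.fx_le ha ha1) h3
  have h6 : w ∈ fx ρ a := by rw [h5]; exact hw
  exact h6

theorem index_R (h : Cfg ρ E R D c d) (hN : NFF ρ) (hV : ∀ v : V, v * v = 1) (h4 : Nat.card E = 4) :
    R.index = 8 := by
  have h1 := h.card_V hV
  rw [h4, index_eq_two h hN hV h4] at h1
  have h2 := R.card_mul_index
  rw [h1] at h2
  have h3 : 0 < Nat.card R := Nat.card_pos
  have h5 : Nat.card R * R.index = Nat.card R * 8 := by rw [h2]; ring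
  exact Nat.eq_of_mul_eq_mul_left h3 h5

theorem CSE_eq (h : Cfg ρ E R D c d) (hN : NFF ρ) (hV : ∀ v : V, v * v = 1) (h4 : Nat.card E = 4) :
    CS ρ E = R := by
  symm
  apply Cfsg.Agent.OddCyclic.FFSl2.eq_of_index_le h.fix
  rw [index_R h hN hV h4]
  have h1 := hN E h.sq h.ne_bot
  rw [h4] at h1
  obtain ⟨m, hm⟩ := index_pow hV (CS ρ E)
  rw [hm] at h1 ⊢
  have h2 : 2 < m := by
    by_contra hcon
    push Not at hcon
    have : 2 ^ m ≤ 2 ^ 2 := Nat.pow_le_pow_right (by norm_num) hcon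
    omega
  calc 8 = 2 ^ 3 := by norm_num
    _ ≤ 2 ^ m := Nat.pow_le_pow_right (by norm_num) h2

/-- an element `x` of order 3 normalising `E` and trivial on `R` has `|V : C_V(x)| = 4` -/
theorem index_le_four (h : Cfg ρ E R D c d) (hN : NFF ρ) (hV : ∀ v : V, v * v = 1) (h4 : Nat.card E = 4) {x : H}
    (hodd : Odd (orderOf x)) (hx : x ∈ normalizer (E : Set H)) (hR : ∀ r ∈ R, ρ x r = r) :
    (fx ρ x).index ≤ 4 := by
  -- `D` is invariant under `x`
  have hDx : ∀ w ∈ D, ρ x w ∈ D := by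
    intro w hw
    obtain ⟨v, hv⟩ := h.exists_notMem
    obtain ⟨a, ha, r, hr, rfl⟩ := h.surj v hv w hw
    have h1 : x * a * x⁻¹ ∈ E := (mem_normalizer_iff.1 hx a).1 ha
    rw [map_mul (ρ x), map_mul (ρ x), map_inv (ρ x), apply_eq, hR r hr]
    exact mul_mem (h.comm_mem _ h1) (h.le hr)
  have hidx := index_eq_two h hN hV h4
  -- `[V, x] ≤ D`
  have hr : (cm ρ x).range ≤ D := by
    rintro _ ⟨v, rfl⟩
    rw [cm_apply]
    by_cases hv : v ∈ D
    · exact mul_mem (hDx v hv) (inv_mem hv)
    · have h1 : ρ x v ∉ D := by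
        intro h2
        apply hv
        -- `D` is finite, so `x⁻¹` preserves `D`
        have h3 : D.map (ρ x : V →* V) = D := by
          apply Subgroup.eq_of_le_of_card_ge
          · rintro _ ⟨w, hw, rfl⟩
            exact hDx w hw
          · rw [Subgroup.card_map_of_injective (ρ x).injective]
        rw [← h3] at h2
        obtain ⟨w, hw, hwv⟩ := h2
        have h4 : w = v := (ρ x).injective hwv
        rwa [← h4]
      rw [Subgroup.mul_mem_iff_of_index_two hidx]
      rw [Subgroup.inv_mem_iff]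
      exact ⟨fun h2 => absurd h2 h1, fun h2 => absurd h2 hv⟩
  have h1 : Nat.card ((cm ρ x).range × R) ≤ Nat.card D := by
    refine Nat.card_le_card_of_injective (fun p : (cm ρ x).range × R =>
      (⟨(p.1 : V) * p.2, mul_mem (hr p.1.2) (h.le p.2.2)⟩ : D)) ?_
    rintro ⟨a, u⟩ ⟨b, w⟩ hab
    have h2 : (a : V) * u = (b : V) * w := congrArg Subtype.val hab
    have h3 : (a : V) * b = u * w := by
      have h5 : (a : V) = b * (w * u) := by
        have : ((a : V) * u) * u = ((b : V) * w) * u := by rw [h2]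
        rwa [mul_assoc, hV, mul_one, mul_assoc] at this
      rw [h5, mul_comm (b : V) _, mul_assoc, hV, mul_one, mul_comm]
    have h6 : (a : V) * b = 1 := by
      apply eq_one_of_fix hV hodd (mul_mem a.2 b.2)
      rw [h3]
      exact hR _ (mul_mem u.2 w.2)
    have h7 : (a : V) = b := by
      rw [mul_eq_one_iff_eq_inv.1 h6, inv_eq hV]
    have h8 : a = b := Subtype.ext h7
    subst h8
    have h9 : (u : V) = w := mul_left_cancel h2
    rw [Subtype.ext h9]
  rw [Nat.card_prod, h.card_D hV, card_range_cm, h4] at h1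
  exact Nat.le_of_mul_le_mul_right h1 Nat.card_pos

end four

/-! ### `L₂(7)` is generated by two elements of order 3 -/

section gen

open Matrix Cfsg.Agent.Lib.SL2Mat Cfsg.Agent.GH.L2Aut Cfsg.Agent.Lib.PSL2Torus
open Cfsg.Agent.OddCyclic.FFThree (exists_cast cast_seven)

variable {F : Type*} [Field F] [Finite F] {L : Type*} [Group L] (Rp : Cfsg.Agent.GH.L2Aut.Rep F L)

include Rp in
theorem exists_gen_three (hF : Nat.card F = 7) (hs : IsSimpleGroup L) :
    ∃ z z' : L, orderOf z = 3 ∧ orderOf z' = 3 ∧ Subgroup.closure {z, z'} = ⊤ := by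
  have hF7 := cast_seven hF
  have h3 : (3 : F) ≠ 0 := FFPsl.three_ne (by rw [hF]; norm_num) (by rw [hF])
  let z : SpecialLinearGroup (Fin 2) F := up 1 * jm F
  have hjj : jm F * jm F = -1 := by
    refine ext_ent ?_ ?_ ?_ ?_
    · rw [ent_mul]; show 0 * 0 + (-1) * 1 = -(1 : F); ring
    · rw [ent_mul]; show 0 * (-1) + (-1) * 0 = -(0 : F); ring
    · rw [ent_mul]; show 1 * 0 + 0 * 1 = -(0 : F); ring
    · rw [ent_mul]; show 1 * (-1) + 0 * 0 = -(1 : F); ring
  set w : L := Rp.π (jm F) with hw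
  set y : L := Rp.π z with hy
  have hw2 : w * w = 1 := by
    rw [hw, ← map_mul, hjj, Rp.ker]
    exact Or.inr rfl
  have hy3 : orderOf y = 3 := by
    have : Fact (Nat.Prime 3) := ⟨Nat.prime_three⟩
    have htr : ent z 0 0 + ent z 1 1 = 1 := by
      rw [ent_mul, ent_mul]
      show (1 : F) * 0 + 1 * 1 + (0 * (-1) + 1 * 0) = 1
      ring
    obtain ⟨h1, h2⟩ := Cfsg.Agent.OddCyclic.FFPslMat.order_three_one Rp h3 htr
    exact orderOf_eq_prime h1 h2
  have hyw : y * w = Rp.π (up 1) := by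
    rw [hy, hw, ← map_mul]
    have : z * jm F = -up 1 := by
      show up 1 * jm F * jm F = -up 1
      rw [mul_assoc, hjj, mul_neg, mul_one]
    rw [this, Rp.π_neg]
  -- `L = ⟨w, π (up 1)⟩`
  have hgen : Subgroup.closure ({w, Rp.π (up 1)} : Set L) = ⊤ := by
    rw [eq_top_iff]
    intro x _
    obtain ⟨X, rfl⟩ := Rp.surj x
    set S := Subgroup.closure ({w, Rp.π (up 1)} : Set L) with hS
    have hj : Rp.π (jm F) ∈ S := Subgroup.subset_closure (Or.inl rfl)
    have hu1 : Rp.π (up 1) ∈ S := Subgroup.subset_closure (Or.inr rfl)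
    have hu : ∀ t : F, Rp.π (up t) ∈ S := by
      intro t
      obtain ⟨n, rfl⟩ := exists_cast hF t
      rw [← FFPsl.up_pow, map_pow]
      exact pow_mem hu1 n
    have hl : ∀ t : F, Rp.π (lo t) ∈ S := by
      intro t
      have h1 : lo t = -(jm F * up (-t) * jm F) := by
        refine ext_ent ?_ ?_ ?_ ?_
        · show 1 = -(ent (jm F * up (-t) * jm F) 0 0)
          rw [ent_mul, ent_mul, ent_mul]
          show (1 : F) = -((0 * 1 + (-1) * 0) * 0 + (0 * (-t) + (-1) * 1) * 1); ring
        · show 0 = -(ent (jm F * up (-t) * jm F) 0 1)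
          rw [ent_mul, ent_mul, ent_mul]
          show (0 : F) = -((0 * 1 + (-1) * 0) * (-1) + (0 * (-t) + (-1) * 1) * 0); ring
        · show t = -(ent (jm F * up (-t) * jm F) 1 0)
          rw [ent_mul, ent_mul, ent_mul]
          show (t : F) = -((1 * 1 + 0 * 0) * 0 + (1 * (-t) + 0 * 1) * 1); ring
        · show 1 = -(ent (jm F * up (-t) * jm F) 1 1)
          rw [ent_mul, ent_mul, ent_mul]
          show (1 : F) = -((1 * 1 + 0 * 0) * (-1) + (1 * (-t) + 0 * 1) * 0); ring
      rw [h1, Rp.π_neg, map_mul, map_mul]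
      exact mul_mem (mul_mem hj (hu _)) hj
    obtain ⟨a, b, c, d, rfl⟩ := exists_up_lo X
    rw [map_mul, map_mul, map_mul]
    exact mul_mem (mul_mem (mul_mem (hu a) (hl b)) (hu c)) (hl d)
  have hwinv : w⁻¹ = w := inv_eq_of_mul_eq_one_left hw2
  set z' : L := w * y * w⁻¹ with hz'
  refine ⟨y, z', hy3, ?_, ?_⟩
  · rw [hz', show orderOf (w * y * w⁻¹) = orderOf y from MulEquiv.orderOf_eq (MulAut.conj w) y, hy3]
  · set S := Subgroup.closure ({y, z'} : Set L) with hS
    have hyS : y ∈ S := Subgroup.subset_closure (Or.inl rfl)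
    have hzS : z' ∈ S := Subgroup.subset_closure (Or.inr rfl)
    have hwS : w ∈ normalizer (S : Set L) := by
      have hle : S ≤ S.comap (MulAut.conj w).toMonoidHom := by
        conv_lhs => rw [hS]
        rw [Subgroup.closure_le]
        rintro s (rfl | rfl)
        · exact hzS
        · show w * z' * w⁻¹ ∈ S
          have : w * z' * w⁻¹ = y := by
            rw [hz']
            calc w * (w * y * w⁻¹) * w⁻¹ = (w * w) * y * (w * w)⁻¹ := by group
              _ = y := by rw [hw2]; simp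
          rw [this]; exact hyS
      rw [mem_normalizer_iff]
      intro s
      refine ⟨fun hs => hle hs, fun hs => ?_⟩
      have h1 := hle hs
      have h2 : w * (w * s * w⁻¹) * w⁻¹ = s := by
        calc w * (w * s * w⁻¹) * w⁻¹ = (w * w) * s * (w * w)⁻¹ := by group
          _ = s := by rw [hw2]; simp
      have h3 : w * (w * s * w⁻¹) * w⁻¹ ∈ S := h1
      rwa [h2] at h3
    have htop : normalizer (S : Set L) = ⊤ := by
      rw [eq_top_iff, ← hgen, Subgroup.closure_le]
      rintro s (rfl | rfl)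
      · exact hwS
      · show Rp.π (up 1) ∈ normalizer (S : Set L)
        rw [← hyw]
        exact mul_mem (le_normalizer hyS) hwS
    have hn : S.Normal := Subgroup.normalizer_eq_top_iff.1 htop
    rcases hs.eq_bot_or_eq_top_of_normal S hn with h1 | h1
    · exfalso
      rw [h1, Subgroup.mem_bot] at hyS
      rw [hyS, orderOf_one] at hy3
      omega
    · exact h1

end gen

/-! ### (β') -/

section beta

open Cfsg.Agent.OddCyclic.FFThree

variable {H : Type*} [Group H] {V : Type*} [CommGroup V] [Finite H] [Finite V] {ρ : H →* MulAut V}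
  {E : Subgroup H} {R D : Subgroup V} {c d : ℕ}

theorem mem_normalizer_map {K : Subgroup H} {A : Subgroup K} {k : K} (hk : k ∈ normalizer (A : Set K)) :
    (k : H) ∈ normalizer ((A.map K.subtype : Subgroup H) : Set H) := by
  rw [mem_normalizer_iff] at hk ⊢
  intro x
  constructor
  · rintro ⟨a, ha, rfl⟩
    exact ⟨k * a * k⁻¹, (hk a).1 ha, rfl⟩
  · rintro ⟨a, ha, hax⟩
    have h1 : k⁻¹ * a * k ∈ A := by
      have := (hk (k⁻¹ * a * k)).2 (by
        have h2 : k * (k⁻¹ * a * k) * k⁻¹ = a := by group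
        rwa [h2])
      exact this
    refine ⟨k⁻¹ * a * k, h1, ?_⟩
    show (k : H)⁻¹ * (a : H) * (k : H) = x
    have h2 : (a : H) = (k : H) * x * (k : H)⁻¹ := hax
    rw [h2]; group

/-- **(β')** -/
theorem beta (h : Cfg ρ E R D c d) (hN : NFF ρ) (hV : ∀ v : V, v * v = 1) (hc : OddCyc H)
    {K : Subgroup H} (hKn : K.Normal) (hs : IsSimpleGroup K) {F : Type*} [Field F] [Finite F]
    (Rp : Cfsg.Agent.GH.L2Aut.Rep F K) (hF : Nat.card F = 7) (hEK : E ≤ K) (h4 : Nat.card E = 4) :
    ∃ x ∈ K, orderOf x = 3 ∧ x ∈ normalizer (E : Set H) ∧ ∃ r ∈ R, ρ x r ≠ r := by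
  have hl := l32_of Rp hF
  set A : Subgroup K := E.subgroupOf K with hA
  have hAE : A.map K.subtype = E := by rw [hA, Subgroup.subgroupOf_map_subtype, inf_eq_left.2 hEK]
  have hA4 : IsFour A := by
    refine ⟨?_, fun a ha => Subtype.ext (h.sq a ha)⟩
    rw [← h4, ← Subgroup.card_map_of_injective K.subtype_injective, hAE]
  obtain ⟨z, hz, a, ha, hfour, hmem⟩ := hA4.exists_four
  obtain ⟨y, hy, hy3, hyz, hya⟩ := fuse_mem hl hfour hmem
  have hyo : orderOf y = 3 := by
    have : Fact (Nat.Prime 3) := ⟨Nat.prime_three⟩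
    refine orderOf_eq_prime (by rw [pow_succ, pow_two, hy3]) ?_
    rintro rfl
    rw [one_mul, inv_one, mul_one] at hyz
    exact hfour.ne hyz
  have hyo' : orderOf (y : H) = 3 := by rw [Subgroup.orderOf_coe]; exact hyo
  have hyE : (y : H) ∈ normalizer (E : Set H) := by
    have := mem_normalizer_map hy
    rwa [hAE] at this
  refine ⟨y, y.2, hyo', hyE, ?_⟩
  by_contra hcon
  push Not at hcon
  have hi4 := index_le_four h hN hV h4 (by rw [hyo']; decide) hyE hcon
  have hall : ∀ z : H, orderOf z = 3 → (fx ρ z).index ≤ 4 := fun z hz => by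
    rw [← FFPsl.index_eq_of_orderOf ρ hc Nat.prime_three (by norm_num) hyo' hz]; exact hi4
  have hCS : CS ρ E = R := CSE_eq h hN hV h4
  have hCK : CS ρ K = ⊥ := by
    refine h.bad _ ?_ (CS_inv ρ K)
    rw [← hCS]
    exact CS_anti hEK
  -- `|V| ≤ 16`
  have hV16 : Nat.card V ≤ 16 := by
    obtain ⟨u, u', hu, hu', hgen⟩ := exists_gen_three Rp hF hs
    have h1 : fx ρ (u : H) ⊓ fx ρ (u' : H) ≤ CS ρ K := by
      rintro v ⟨hv, hv'⟩ k hk
      have h2 : (⊤ : Subgroup K) ≤ (FFSl2.stb ρ v).comap K.subtype := by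
        rw [← hgen, Subgroup.closure_le]
        rintro s (rfl | rfl)
        · exact hv
        · exact hv'
      exact h2 (Subgroup.mem_top (⟨k, hk⟩ : K))
    rw [hCK, le_bot_iff] at h1
    have h2 := Subgroup.index_inf_le (H := fx ρ (u : H)) (K := fx ρ (u' : H))
    rw [h1, Subgroup.index_bot] at h2
    exact h2.trans (Nat.mul_le_mul (hall _ (by rw [Subgroup.orderOf_coe]; exact hu))
      (hall _ (by rw [Subgroup.orderOf_coe]; exact hu')))
  have hR2 : Nat.card R ≤ 2 := by
    have h1 := R.card_mul_index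
    rw [index_R h hN hV h4] at h1
    omega
  -- a Sylow 2-subgroup
  have hA2 : IsPGroup 2 A := fun a => ⟨1, by
    rw [pow_one, pow_two]; exact Subtype.ext (hA4.sq a a.2)⟩
  obtain ⟨T, hT⟩ := hA2.exists_le_sylow
  obtain ⟨z', a', b', hza, hzb, hAeq, hBT, -, -, -, -, hsup⟩ := exists_other hl T hA4 hT
  set B : Subgroup H := hzb.sub.map K.subtype with hB
  have hVne : (⊤ : Subgroup V) ≠ ⊥ := by
    intro h1
    obtain ⟨v, hv⟩ := h.exists_notMem
    apply hv
    have : v ∈ (⊤ : Subgroup V) := trivial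
    rw [h1, Subgroup.mem_bot] at this
    rw [this]
    exact one_mem D
  obtain ⟨v, -, hv1, hvT⟩ := exists_fixed hV (ρ := ρ) (P := (T : Subgroup K).map K.subtype)
    (T.2.map K.subtype) (W := ⊤) (fun _ _ _ _ => trivial) hVne
  have hvR : v ∈ R := by
    rw [← hCS]
    intro e he
    exact hvT e ⟨⟨e, hEK he⟩, hT he, rfl⟩
  have hRv : ∀ w ∈ R, w = 1 ∨ w = v := by
    intro w hw
    by_contra hcon2
    push Not at hcon2
    have h1 : ({1, v, w} : Set V) ⊆ R := by
      rintro u (rfl | rfl | rfl)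
      · exact one_mem R
      · exact hvR
      · exact hw
    have h2 : ({1, v, w} : Set V).ncard = 3 := by
      rw [Set.ncard_eq_three]
      exact ⟨1, v, w, hv1.symm, hcon2.1.symm, hcon2.2.symm, rfl⟩
    have h3 := Set.ncard_le_ncard h1 (Set.toFinite _)
    rw [h2] at h3
    have h4 : (R : Set V).ncard = Nat.card R := (Nat.card_coe_set_eq _).symm
    omega
  have hvB : v ∈ CS ρ B := by
    rintro _ ⟨b, hb, rfl⟩
    exact hvT _ ⟨b, hBT hb, rfl⟩
  have hBcard : Nat.card (CS ρ B) ≤ 2 := by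
    have h1 := hN B (by
      rintro _ ⟨b, hb, rfl⟩
      exact congrArg Subtype.val ((isFour_sub hzb).sq b hb)) (by
      intro h2
      have h3 : Nat.card B = 4 := by
        rw [hB, Subgroup.card_map_of_injective K.subtype_injective]
        exact (isFour_sub hzb).card
      rw [h2, Subgroup.card_bot] at h3
      omega)
    have h3 : Nat.card B = 4 := by
      rw [hB, Subgroup.card_map_of_injective K.subtype_injective]
      exact (isFour_sub hzb).card
    rw [h3] at h1
    obtain ⟨m, hm⟩ := index_pow hV (CS ρ B)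
    have h5 : 8 ≤ (CS ρ B).index := by
      rw [hm] at h1 ⊢
      have h2 : 2 < m := by
        by_contra hcon
        push Not at hcon
        have : 2 ^ m ≤ 2 ^ 2 := Nat.pow_le_pow_right (by norm_num) hcon
        omega
      calc 8 = 2 ^ 3 := by norm_num
        _ ≤ 2 ^ m := Nat.pow_le_pow_right (by norm_num) h2
    have h6 := (CS ρ B).card_mul_index
    by_contra hcon2
    push Not at hcon2
    have h7 : 3 * 8 ≤ Nat.card (CS ρ B) * (CS ρ B).index := Nat.mul_le_mul hcon2 h5
    omega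
  have hBv : ∀ w ∈ CS ρ B, w = 1 ∨ w = v := by
    intro w hw
    by_contra hcon2
    push Not at hcon2
    have h1 : ({1, v, w} : Set V) ⊆ CS ρ B := by
      rintro u (rfl | rfl | rfl)
      · exact one_mem _
      · exact hvB
      · exact hw
    have h2 : ({1, v, w} : Set V).ncard = 3 := by
      rw [Set.ncard_eq_three]
      exact ⟨1, v, w, hv1.symm, hcon2.1.symm, hcon2.2.symm, rfl⟩
    have h3 := Set.ncard_le_ncard h1 (Set.toFinite _)
    rw [h2] at h3
    have h4 : (CS ρ B : Set V).ncard = Nat.card (CS ρ B) := (Nat.card_coe_set_eq _).symm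
    omega
  -- `K` fixes `v`
  have hfix : (⊤ : Subgroup K) ≤ (FFSl2.stb ρ v).comap K.subtype := by
    rw [← hsup]
    have hne : ∀ k : K, ρ (k : H) v ≠ 1 := fun k h1 =>
      hv1 ((map_eq_one_iff _ (ρ (k : H)).injective).1 h1)
    refine sup_le ?_ ?_
    · intro k hk
      have h1 := mem_normalizer_map hk
      rw [hAE] at h1
      have h2 : ρ (k : H) v ∈ R := by
        rw [← hCS]
        exact CS_stable h1 (by rw [hCS]; exact hvR)
      exact (hRv _ h2).resolve_left (hne k)
    · intro k hk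
      have h1 := mem_normalizer_map hk
      have h2 : ρ (k : H) v ∈ CS ρ B := CS_stable h1 hvB
      exact (hBv _ h2).resolve_left (hne k)
  have hvK : v ∈ CS ρ K := fun k hk => hfix (Subgroup.mem_top (⟨k, hk⟩ : K))
  rw [hCK, Subgroup.mem_bot] at hvK
  exact hv1 hvK

end beta

end Cfsg.Agent.OddCyclic.EmpC
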