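import Mathlib
import Cfsg.Agent.OddCyclic.EmpC.L32
import Cfsg.Agent.OddCyclic.ClaimC.Sz

/-!
# CLAIM C: the outcome

* `Beta` : the outcome (β');
* `main` : `K = SL₂(q)`, `E` faithful on `K`, or `Beta`.
-/

set_option autoImplicit false
set_option linter.unusedSectionVars false

namespace Cfsg.Agent.OddCyclic.EmpC

open Subgroup Cfsg.Agent.OddCyclic.T1Module Cfsg.Agent.OddCyclic.FFBasic Cfsg.Agent.OddCyclic.FFRed
open Cfsg.Agent.OddCyclic.T1Defs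
open Cfsg.Agent.OddCyclic.PumpMain (KZero)
open Cfsg.Agent.OddCyclic.ClaimC.WDefs

theorem rsz_of {J : Type*} [Group J] [Finite J] (h : Cfsg.Lie.IsoSuzuki J) : ∃ q, RSz J q := by
  obtain ⟨f, hf, -, -, h1, h2⟩ := ClaimC.Sz.sz h
  refine ⟨2 ^ f, ?_, h1, ?_⟩
  · calc 2 = 2 ^ 1 := by norm_num
      _ ≤ 2 ^ f := Nat.pow_le_pow_right (by norm_num) (by omega)
  · intro k hk hk1
    obtain ⟨r, y, hr, hr2, hy, hky, hd⟩ := h2 k hk hk1
    refine ⟨y, r, hr, hr2, hy, hky, fun d hd0 hdr => ?_⟩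
    rw [← pow_mul]
    exact Nat.pow_le_pow_right (by norm_num) (by have := hd d hd0 hdr; omega)

/-- **(β')** -/
structure Beta {H : Type*} [Group H] {V : Type*} [CommGroup V] (ρ : H →* MulAut V) (E : Subgroup H)
    (R D : Subgroup V) : Prop where
  card_E : Nat.card E = 4
  index : D.index = 2
  eq : CS ρ E = R
  ex : ∃ K : Subgroup H, K.Normal ∧ IsSimpleGroup K ∧ Nat.card K = 168 ∧ E ≤ K ∧
    ∃ x ∈ K, orderOf x = 3 ∧ x ∈ normalizer (E : Set H) ∧ ∃ r ∈ R, ρ x r ≠ r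

variable {H : Type*} [Group H] {V : Type*} [CommGroup V] [Finite H] [Finite V] {ρ : H →* MulAut V} {T : Sylow 2 H}
  {E : Subgroup H} {R D : Subgroup V} {c d : ℕ}

/-- CLAIM C up to the case `K = SL₂(q)` -/
theorem main_cases (h : Cfg ρ E R D c d) (hB : Bad ρ T) (hN : NFF ρ) (hV : ∀ v : V, v * v = 1)
    (hρ : Function.Injective ρ) (hc : OddCyc H)
    (hk : ∀ J : Subgroup H, IsSimpleGroup J → (∃ x y : J, x * y ≠ y * x) → KZero J) (h2 : pCore 2 H = ⊥) :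
    (∃ L : Subgroup H, L.Normal ∧ IsSimpleGroup L ∧ Fw ρ L E ∧ ∃ (F : Type) (_ : Field F) (_ : Fintype F) (_ : CharP F 2),
      4 ≤ Fintype.card F ∧ Nonempty (Matrix.SpecialLinearGroup (Fin 2) F ≃* L)) ∨ Beta ρ E R D := by
  rcases cases_ h hB hN hV hρ hc hk h2 (fun K hK => rsz_of hK) with h1 | h1
  · exact Or.inl h1
  · obtain ⟨L, hL, hs, hf, hEL, h4, F, i1, i2, hF, ⟨Rp⟩⟩ := h1
    right
    exact ⟨h4, index_eq_two h hN hV h4, CSE_eq h hN hV h4, L, hL, hs, (FFThree.l32_of Rp hF).card, hEL,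
      beta h hN hV hc hL hs Rp hF hEL h4⟩

end Cfsg.Agent.OddCyclic.EmpC
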