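import Mathlib
import Cfsg.Agent.OddCyclic.EmpC.Main
import Cfsg.Agent.OddCyclic.ClaimC.Six

/-!
# CLAIM C: the theorem

`main` : `(α')` or `(β')`.
-/

set_option autoImplicit false
set_option linter.unusedSectionVars false

namespace Cfsg.Agent.OddCyclic.EmpC

open Subgroup Cfsg.Agent.OddCyclic.T1Module Cfsg.Agent.OddCyclic.FFBasic Cfsg.Agent.OddCyclic.FFRed
open Cfsg.Agent.OddCyclic.T1Defs
open Cfsg.Agent.OddCyclic.PumpMain (KZero)
open Cfsg.Agent.OddCyclic.ClaimC.WDefs Cfsg.Agent.OddCyclic.ClaimC.Alpha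

variable {H : Type*} [Group H] {V : Type*} [CommGroup V] [Finite H] [Finite V] {ρ : H →* MulAut V} {T : Sylow 2 H}
  {E : Subgroup H} {R D : Subgroup V} {c d : ℕ}

/-- **CLAIM C** -/
theorem main (h : Cfg ρ E R D c d) (hB : Bad ρ T) (hN : NFF ρ) (hV : ∀ v : V, v * v = 1)
    (hρ : Function.Injective ρ) (hc : OddCyc H)
    (hk : ∀ J : Subgroup H, IsSimpleGroup J → (∃ x y : J, x * y ≠ y * x) → KZero J) (h2 : pCore 2 H = ⊥) :
    (∃ K T' : Subgroup H, K.Normal ∧ IsSimpleGroup K ∧ Alpha ρ K E T' R D d) ∨ Beta ρ E R D := by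
  rcases main_cases h hB hN hV hρ hc hk h2 with h1 | h1
  · obtain ⟨L, hL, hs, hf, F, i1, i2, i3, h4, ⟨e⟩⟩ := h1
    obtain ⟨T', hT', -⟩ := ClaimC.Six.main h hB hN hV hρ h4 e hf.faithA hf.inn
    exact Or.inl ⟨L, T', hL, hs, hT'⟩
  · exact Or.inr h1

end Cfsg.Agent.OddCyclic.EmpC
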